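import Cfsg.Agent.Lib.VecCentralizer.Triv
import Cfsg.Agent.Lib.Solvable.Basic
import Cfsg.Agent.S0548
import Mathlib.GroupTheory.GroupAction.Primitive

/-! The affine model of a primitive solvable group. -/

set_option autoImplicit false
set_option linter.style.haveILetI false

namespace Cfsg.Agent.VecCentralizer

open OddBaseTwo (Irr)
open scoped commutatorElement

/-- An affine model. -/
structure Aff (P Ω : Type) [Group P] [MulAction P Ω] where
  s : ℕ
  hs : s.Prime
  W : Type
  [grpW : AddCommGroup W]
  [finW : Finite W]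
  [modW : Module (ZMod s) W]
  [actW : DistribMulAction P W]
  ntW : Nontrivial W
  pt : W ≃ Ω
  tr : P → W
  haff : ∀ (g : P) (x : W), g • pt x = pt (g • x + tr g)
  irr : Irr P W

attribute [instance] Aff.grpW Aff.finW Aff.modW Aff.actW

/-- Existence of the affine model. -/
theorem exists_aff {P Ω : Type} [Group P] [Finite P] [Group.IsSolvable P] [MulAction P Ω] [Finite Ω]
    [FaithfulSMul P Ω] [Nontrivial Ω] (hprim : MulAction.IsPreprimitive P Ω) : Nonempty (Aff P Ω) := by
  classical
  have hP1 : (⊤ : Subgroup P) ≠ ⊥ := by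
    intro e
    obtain ⟨x, y, hxy⟩ := exists_pair_ne Ω
    obtain ⟨g, hg⟩ := MulAction.exists_smul_eq P x y
    have : g = 1 := Subgroup.mem_bot.1 (e ▸ Subgroup.mem_top g)
    exact hxy (by rw [← hg, this, one_smul])
  haveI : Group.IsSolvable (⊤ : Subgroup P) := inferInstance
  obtain ⟨r, hr, M, hMn, hM0, -, hMc, hMr, hMexp, hmin⟩ := Solvable.exists_minimal_normal_pGroup hP1
  haveI := hMn
  haveI := Fact.mk hr
  obtain ⟨ω⟩ := (inferInstance : Nonempty Ω)
  have h548 := S0548.result hprim M hM0 hmin ω
  set U := MulAction.stabilizer P ω with hU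
  have hMcomm : ∀ a ∈ M, ∀ b ∈ M, a * b = b * a := fun a ha b hb =>
    congrArg Subtype.val (hMc.is_comm.comm (⟨a, ha⟩ : M) ⟨b, hb⟩)
  have hbij : Function.Bijective fun m : M => (m : P) • ω := by
    refine ⟨fun m m' h => ?_, fun y => ?_⟩
    · have h1 : ((m'⁻¹ * m : M) : P) ∈ M ⊓ U :=
        ⟨(m'⁻¹ * m).2, show ((m'⁻¹ * m : M) : P) • ω = ω by
          rw [Subgroup.coe_mul, Subgroup.coe_inv, mul_smul, show (m : P) • ω = (m' : P) • ω from h, inv_smul_smul]⟩
      rw [h548.1.disjoint.eq_bot, Subgroup.mem_bot] at h1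
      exact (inv_mul_eq_one.1 (Subtype.ext h1 : m'⁻¹ * m = 1)).symm
    · obtain ⟨g, rfl⟩ := MulAction.exists_smul_eq P ω y
      obtain ⟨⟨m, u⟩, hmu⟩ := h548.1.2 g
      exact ⟨m, by simp only at hmu ⊢; rw [← hmu, mul_smul, MulAction.mem_stabilizer_iff.mp u.2]⟩
  letI : CommGroup M := { (inferInstance : Group M) with mul_comm := fun a b => Subtype.ext (hMcomm a a.2 b b.2) }
  letI actP : DistribMulAction P (Additive M) :=
    { smul := fun u x => Additive.ofMul ((MulAut.conjNormal (H := M) u) x.toMul)
      one_smul := fun x => by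
        show Additive.ofMul ((MulAut.conjNormal (H := M) (1 : P)) x.toMul) = x
        rw [map_one]; rfl
      mul_smul := fun u v x => by
        show Additive.ofMul ((MulAut.conjNormal (H := M) (u * v)) x.toMul) = _
        rw [map_mul]; rfl
      smul_zero := fun u => by
        show Additive.ofMul ((MulAut.conjNormal (H := M) u) 1) = 0
        rw [map_one]; rfl
      smul_add := fun u x y => by
        show Additive.ofMul ((MulAut.conjNormal (H := M) u) (x.toMul * y.toMul)) = _
        rw [map_mul]; rfl }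
  have hsmul : ∀ (u : P) (x : Additive M), (((u • x).toMul : M) : P) = u * (x.toMul : M) * u⁻¹ :=
    fun u x => MulAut.conjNormal_apply _ _
  have hirr : Irr P (Additive M) := by
    intro T hT
    let K : Subgroup P := (AddSubgroup.toSubgroup' T).map M.subtype
    have hKM : K ≤ M := Subgroup.map_subtype_le _
    have hnorm : MulAction.stabilizer P ω ≤ Subgroup.normalizer (K : Set P) := by
      intro u _
      refine Subgroup.mem_normalizer_fintype ?_
      rintro _ ⟨m, hm, rfl⟩
      exact ⟨(u • Additive.ofMul m).toMul, hT u _ hm, hsmul u _⟩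
    rcases h548.2.2 K hKM hnorm with hb | ht
    · left
      refine (AddSubgroup.eq_bot_iff_forall _).2 fun x hx => ?_
      have : ((x.toMul : M) : P) ∈ K := ⟨x.toMul, hx, rfl⟩
      rw [hb, Subgroup.mem_bot] at this
      exact Additive.toMul.injective (Subtype.ext this)
    · right
      refine eq_top_iff.2 fun x _ => ?_
      have : ((x.toMul : M) : P) ∈ K := by rw [ht]; exact x.toMul.2
      obtain ⟨m, hm, he⟩ := this
      have he' : m = x.toMul := Subtype.ext he
      rw [he'] at hm
      exact hm
  letI : Module (ZMod r) (Additive M) := AddCommGroup.zmodModule fun x => by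
    apply Additive.toMul.injective
    apply Subtype.ext
    rw [toMul_nsmul, SubmonoidClass.coe_pow]
    exact hMexp _ x.toMul.2
  let e : Additive M ≃ Ω := Additive.toMul.trans (Equiv.ofBijective _ hbij)
  have he : ∀ x : Additive M, e x = ((x.toMul : M) : P) • ω := fun _ => rfl
  refine ⟨{ s := r, hs := hr, W := Additive M, ntW := ?_, pt := e, tr := fun g => e.symm (g • ω)
            haff := fun g x => ?_, irr := hirr }⟩
  · haveI : Nontrivial M := (Subgroup.nontrivial_iff_ne_bot M).2 hM0
    exact inferInstanceAs (Nontrivial (Additive M))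
  · rw [he, he, toMul_add, Subgroup.coe_mul, hsmul, mul_smul _ (((e.symm (g • ω)).toMul : M) : P), ← he (e.symm _),
      e.apply_symm_apply, mul_smul, inv_smul_smul, mul_smul]

namespace Aff

variable {P Ω : Type} [Group P] [MulAction P Ω] (F : Aff P Ω)

theorem card_eq : Nat.card F.W = Nat.card Ω := Nat.card_congr F.pt

theorem exists_pow : ∃ i, 0 < i ∧ Nat.card Ω = F.s ^ i := by
  haveI := Fact.mk F.hs
  haveI := F.ntW
  rw [← F.card_eq]
  exact exists_card_eq_pow

theorem translation {g : P} (hg : ∀ x : F.W, g • x = x) (x : F.W) : g • F.pt x = F.pt (x + F.tr g) := by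
  rw [F.haff, hg]

/-- The derived length on the points exceeds the one on the vectors by at most one. -/
theorem triv_succ {H : Subgroup P} {D : ℕ} (h : Triv H F.W D) : Triv H Ω (D + 1) := by
  intro g hg x
  have hle : derivedSeries H (D + 1) ≤ (MulAction.toPermHom H Ω).ker := by
    rw [derivedSeries_succ, Subgroup.commutator_le]
    intro a ha b hb
    refine MonoidHom.mem_ker.2 (Equiv.ext fun y => ?_)
    show ⁅a, b⁆ • y = y
    obtain ⟨w, rfl⟩ := F.pt.surjective y
    have ha' : ∀ v : F.W, (a : P) • F.pt v = F.pt (v + F.tr a) := F.translation fun v => h a ha v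
    have hb' : ∀ v : F.W, (b : P) • F.pt v = F.pt (v + F.tr b) := F.translation fun v => h b hb v
    have hai : ∀ v : F.W, (a : P)⁻¹ • F.pt v = F.pt (v - F.tr a) := fun v => by
      rw [inv_smul_eq_iff, ha', sub_add_cancel]
    have hbi : ∀ v : F.W, (b : P)⁻¹ • F.pt v = F.pt (v - F.tr b) := fun v => by
      rw [inv_smul_eq_iff, hb', sub_add_cancel]
    show ((⁅a, b⁆ : H) : P) • F.pt w = F.pt w
    rw [commutatorElement_def, Subgroup.coe_mul, Subgroup.coe_mul, Subgroup.coe_mul, Subgroup.coe_inv,
      Subgroup.coe_inv, mul_smul, mul_smul, mul_smul, hbi, hai, hb', ha']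
    congr 1
    abel
  exact Equiv.congr_fun (MonoidHom.mem_ker.1 (hle hg)) x

/-- The whole group. -/
theorem triv_succ_top {D : ℕ} (h : Triv P F.W D) : Triv P Ω (D + 1) :=
  (F.triv_succ (h.sub ⊤)).comap Subgroup.topEquiv.symm.toMonoidHom fun _ _ => rfl

end Aff

end Cfsg.Agent.VecCentralizer
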