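import Cfsg.Agent.Lib.VecCentralizer.ColBasic

/-! Certificates for colourings of small affine spaces with abelian stabiliser. -/

set_option autoImplicit false
set_option linter.style.haveILetI false

namespace Cfsg.Agent.VecCentralizer

namespace Cert

open scoped commutatorElement

variable {s i : ℕ}

/-- All vectors. -/
def pts (s : ℕ) : ∀ i : ℕ, List (Fin i → ZMod s)
  | 0 => [Fin.elim0]
  | i + 1 => (List.range s).flatMap fun (a : ℕ) => (pts s i).map fun v => Fin.cons (a : ZMod s) v

theorem mem_pts [NeZero s] : ∀ {i : ℕ} (v : Fin i → ZMod s), v ∈ pts s i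
  | 0, v => by rw [pts, List.mem_singleton]; exact funext fun j => j.elim0
  | i + 1, v => by
    rw [pts, List.mem_flatMap]
    refine ⟨(v 0).val, List.mem_range.2 (ZMod.val_lt _), List.mem_map.2 ⟨Fin.tail v, mem_pts _, ?_⟩⟩
    rw [ZMod.natCast_rightInverse (v 0)]
    exact Fin.cons_self_tail v

/-- Injective choices from lists. -/
def gen {α : Type} [DecidableEq α] : ∀ n : ℕ, (Fin n → List α) → List (Fin n → α)
  | 0, _ => [Fin.elim0]
  | n + 1, L => (L 0).flatMap fun a => (gen n fun j => (L j.succ).filter fun x => x ≠ a).map fun f => Fin.cons a f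

theorem mem_gen {α : Type} [DecidableEq α] : ∀ {n : ℕ} {L : Fin n → List α} {f : Fin n → α},
    (∀ j, f j ∈ L j) → Function.Injective f → f ∈ gen n L
  | 0, L, f, _, _ => by rw [gen, List.mem_singleton]; exact funext fun j => j.elim0
  | n + 1, L, f, h, hi => by
    rw [gen, List.mem_flatMap]
    refine ⟨f 0, h 0, List.mem_map.2 ⟨Fin.tail f, mem_gen (fun j => ?_) ?_, Fin.cons_self_tail f⟩⟩
    · rw [List.mem_filter]
      exact ⟨h j.succ, decide_eq_true fun e => Fin.succ_ne_zero j (hi e)⟩
    · exact fun a b e => Fin.succ_injective _ (hi e)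

/-- The standard frame. -/
def frame (j : Fin (i + 1)) : Fin i → ZMod s := fun t => if (j : ℕ) = t + 1 then 1 else 0

/-- The affine map with given frame images. -/
def aff (y : Fin (i + 1) → Fin i → ZMod s) (x : Fin i → ZMod s) : Fin i → ZMod s :=
  fun t => y 0 t + ((List.finRange i).map fun j => x j * (y j.succ t - y 0 t)).sum

/-- The colour given by two lists. -/
def colour (A B : List (Fin i → ZMod s)) (x : Fin i → ZMod s) : Fin 3 :=
  if x ∈ A then 0 else if x ∈ B then 1 else 2

/-- Candidate frame images of the stabiliser. -/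
def cands (A B : List (Fin i → ZMod s)) : List (Fin (i + 1) → Fin i → ZMod s) :=
  (gen (i + 1) fun j => (pts s i).filter fun x => colour A B x = colour A B (frame j)).filter fun y =>
    (A ++ B).all fun a => colour A B (aff y a) = colour A B a

/-- The candidates commute. -/
def check (A B : List (Fin i → ZMod s)) : Bool :=
  (cands A B).all fun y => (cands A B).all fun z =>
    (List.finRange (i + 1)).all fun j => aff y (z j) = aff z (y j)

variable {P Ω : Type} [Group P] [MulAction P Ω]

theorem aff_eq [NeZero i] (φ : (Fin i → ZMod s) →+ (Fin i → ZMod s)) (c x : Fin i → ZMod s) :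
    aff (fun j => φ (frame j) + c) x = φ x + c := by
  funext t
  have h0 : frame (s := s) (i := i) 0 = 0 := funext fun u => by simp [frame]
  have hj : ∀ j : Fin i, frame (s := s) j.succ = Pi.single j 1 := fun j => funext fun u => by
    simp only [frame, Fin.val_succ, Pi.single_apply]
    by_cases h : u = j
    · subst h; simp
    · rw [if_neg h, if_neg]
      exact fun e => h (Fin.ext (by omega))
  simp only [aff, h0, map_zero, Pi.zero_apply, zero_add, Pi.add_apply, add_sub_cancel_right, hj]
  rw [add_comm, ← Fin.sum_univ_def]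
  congr 1
  conv_rhs => rw [pi_eq_sum_univ x, map_sum]
  rw [Finset.sum_apply]
  refine Finset.sum_congr rfl fun j _ => ?_
  rw [ZMod.map_smul φ (x j)]
  simp only [Pi.smul_apply, smul_eq_mul]
  rw [show (fun u : Fin i => if j = u then (1 : ZMod s) else 0) = Pi.single j 1 from
    funext fun u => by simp [Pi.single_apply, eq_comm]]

/-- The coordinates of a point. -/
def co (F : Aff P Ω) (Ψ : F.W ≃+ (Fin i → ZMod s)) (x : Ω) : Fin i → ZMod s := Ψ (F.pt.symm x)

/-- The point with given coordinates. -/
def pos (F : Aff P Ω) (Ψ : F.W ≃+ (Fin i → ZMod s)) (z : Fin i → ZMod s) : Ω := F.pt (Ψ.symm z)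

/-- The images of the frame. -/
def img (F : Aff P Ω) (Ψ : F.W ≃+ (Fin i → ZMod s)) (g : P) (j : Fin (i + 1)) : Fin i → ZMod s :=
  co F Ψ (g • pos F Ψ (frame j))

theorem co_pos (F : Aff P Ω) (Ψ : F.W ≃+ (Fin i → ZMod s)) (z : Fin i → ZMod s) : co F Ψ (pos F Ψ z) = z := by
  simp [co, pos]

theorem pos_co (F : Aff P Ω) (Ψ : F.W ≃+ (Fin i → ZMod s)) (x : Ω) : pos F Ψ (co F Ψ x) = x := by
  simp [co, pos]

theorem co_inj (F : Aff P Ω) (Ψ : F.W ≃+ (Fin i → ZMod s)) : Function.Injective (co F Ψ) :=
  Ψ.injective.comp F.pt.symm.injective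

theorem co_smul [NeZero i] (F : Aff P Ω) (Ψ : F.W ≃+ (Fin i → ZMod s)) (g : P) (z : Fin i → ZMod s) :
    co F Ψ (g • pos F Ψ z) = aff (img F Ψ g) z := by
  let φ : (Fin i → ZMod s) →+ (Fin i → ZMod s) :=
    (Ψ.toAddMonoidHom.comp (DistribSMul.toAddMonoidHom F.W g)).comp Ψ.symm.toAddMonoidHom
  have hco : ∀ z, co F Ψ (g • pos F Ψ z) = φ z + Ψ (F.tr g) := by
    intro z
    show Ψ (F.pt.symm (g • F.pt (Ψ.symm z))) = Ψ (g • Ψ.symm z) + Ψ (F.tr g)
    rw [F.haff, Equiv.symm_apply_apply, map_add]
  rw [hco, show img F Ψ g = fun j => φ (frame j) + Ψ (F.tr g) from funext fun j => hco _, aff_eq]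

/-- Commuting frame images give an abelian group. -/
theorem triv_of_list [FaithfulSMul P Ω] [NeZero i] (F : Aff P Ω) (Ψ : F.W ≃+ (Fin i → ZMod s))
    (L : List (Fin (i + 1) → Fin i → ZMod s))
    (h : (L.all fun y => L.all fun z => (List.finRange (i + 1)).all fun j => aff y (z j) = aff z (y j)) = true)
    (H : Subgroup P) (hH : ∀ g ∈ H, img F Ψ g ∈ L) : Triv H Ω 1 := by
  have hcomm : ∀ a b : H, a * b = b * a := by
    intro a b
    refine Subtype.ext (eq_of_smul_eq_smul (α := Ω) fun x => ?_)
    obtain ⟨z, rfl⟩ : ∃ z, pos F Ψ z = x := ⟨_, pos_co F Ψ x⟩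
    refine co_inj F Ψ ?_
    rw [Subgroup.coe_mul, Subgroup.coe_mul, co_smul, co_smul]
    congr 1
    funext j
    have hyz := List.all_eq_true.1 h _ (hH a a.2)
    have hj := List.all_eq_true.1 (List.all_eq_true.1 hyz _ (hH b b.2)) j (List.mem_finRange j)
    have e := of_decide_eq_true hj
    rw [← co_smul, ← co_smul] at e
    simp only [img, pos_co] at e
    simp only [img, mul_smul]
    exact e
  intro g hg x
  rw [derived_one_of_comm hcomm, Subgroup.mem_bot] at hg
  rw [hg, one_smul]

theorem frame_inj [Fact (1 < s)] : Function.Injective (frame (s := s) (i := i)) := by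
  intro a b h1
  by_contra hne
  rcases Nat.eq_zero_or_pos (a : ℕ) with ha | ha
  · have hb : (b : ℕ) ≠ 0 := fun hb => hne (Fin.ext (by omega))
    have := congrFun h1 ⟨(b : ℕ) - 1, by have := b.isLt; omega⟩
    simp only [frame] at this
    rw [if_neg (by omega), if_pos (by omega)] at this
    exact zero_ne_one this
  · have := congrFun h1 ⟨(a : ℕ) - 1, by have := a.isLt; omega⟩
    simp only [frame] at this
    have hab : (a : ℕ) ≠ b := fun e => hne (Fin.ext e)
    rw [if_pos (by omega), if_neg (by omega)] at this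
    exact one_ne_zero this

/-- A certified colouring has abelian stabiliser. -/
theorem triv_of_check [FaithfulSMul P Ω] [NeZero s] [NeZero i] [Fact (1 < s)] (F : Aff P Ω)
    (Ψ : F.W ≃+ (Fin i → ZMod s)) (A B : List (Fin i → ZMod s)) (h : check A B = true) {ι : Type} (π : Fin 3 → ι)
    (hπ : Function.Injective π) : Triv (colStab P fun x => π (colour A B (co F Ψ x))) Ω 1 := by
  refine triv_of_list F Ψ (cands A B) h _ fun g hg => ?_
  have hcol : ∀ x, colour A B (co F Ψ (g • x)) = colour A B (co F Ψ x) := fun x => hπ (hg x)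
  refine List.mem_filter.2 ⟨mem_gen (fun j => ?_) ?_, ?_⟩
  · refine List.mem_filter.2 ⟨mem_pts _, decide_eq_true ?_⟩
    rw [img, hcol, co_pos]
  · intro a b e
    have h1 : pos F Ψ (frame a) = pos F Ψ (frame b) := smul_left_cancel g (co_inj F Ψ e)
    have h2 := congrArg (co F Ψ) h1
    rw [co_pos, co_pos] at h2
    exact frame_inj h2
  · rw [List.all_eq_true]
    intro z _
    refine decide_eq_true ?_
    rw [← co_smul, hcol, co_pos]

end Cert

end Cfsg.Agent.VecCentralizer
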