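import Cfsg.Agent.Lib.VecCentralizer.Glue
import Cfsg.Agent.Lib.VecCentralizer.Affine
import Cfsg.Agent.Lib.BaseThree.Colour
import Cfsg.Agent.Lib.BaseThree.Classes

/-! Inequivalent colourings: first tools, and five colours. -/

set_option autoImplicit false
set_option linter.style.haveILetI false

namespace Cfsg.Agent.VecCentralizer

/-- From the group of permutations induced. -/
theorem Cols.of_range {A Ω : Type} [Group A] [MulAction A Ω] {m k t : ℕ}
    (h : Cols (MulAction.toPermHom A Ω).range Ω m k t) : Cols A Ω m k t := by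
  obtain ⟨f, h1, h2⟩ := h
  refine ⟨f, fun i j hij a => h1 i j hij ((MulAction.toPermHom A Ω).rangeRestrict a), fun i => ?_⟩
  exact (h2 i).comap
    { toFun := fun a => ⟨(MulAction.toPermHom A Ω).rangeRestrict (a : A), a.2⟩
      map_one' := Subtype.ext (map_one (MulAction.toPermHom A Ω).rangeRestrict)
      map_mul' := fun a b => Subtype.ext (map_mul (MulAction.toPermHom A Ω).rangeRestrict (a : A) (b : A)) }
    fun _ _ => rfl

variable {P Ω : Type} [Group P] [MulAction P Ω]

theorem triv_colStab {ι : Type} {D : ℕ} (h : Triv P Ω D) (f : Ω → ι) : Triv (colStab P f) Ω D := h.sub _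

/-- Different sizes of the classes separate. -/
theorem cols_of_count [Finite Ω] {m k t : ℕ} (f : Fin k → Ω → Fin m)
    (hcount : ∀ i j, i ≠ j → ∃ c, {x | f i x = c}.ncard ≠ {x | f j x = c}.ncard)
    (ht : ∀ i, Triv (colStab P (f i)) Ω t) : Cols P Ω m k t := by
  refine ⟨f, fun i j hij a => ?_, ht⟩
  obtain ⟨c, hc⟩ := hcount i j hij
  by_contra hall
  push Not at hall
  refine hc ?_
  rw [show {x | f i x = c} = (fun x => a • x) ⁻¹' {x | f j x = c} by ext x; simp [hall x]]
  refine Set.ncard_preimage_of_injective_subset_range (MulAction.injective a) fun x _ => ⟨a⁻¹ • x, smul_inv_smul a x⟩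

/-- A class of size prime to the characteristic removes the translations. -/
theorem triv_of_coprime [Finite Ω] (F : Aff P Ω) {ι : Type} (f : Ω → ι) {D : ℕ} (h : Triv P F.W D) (c : ι)
    (hc : ¬ F.s ∣ {x | f x = c}.ncard) : Triv (colStab P f) Ω D := by
  classical
  intro g hg x
  haveI := Fintype.ofFinite F.W
  have htriv : ∀ w : F.W, (g : P) • w = w := fun w =>
    h _ (map_derivedSeries_le_derivedSeries (colStab P f).subtype D ⟨g, hg, rfl⟩) w
  have htr := F.translation htriv
  let C : Finset F.W := Finset.univ.filter fun w => f (F.pt w) = c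
  have hC : C.card = {x | f x = c}.ncard := by
    rw [← Set.ncard_coe_finset, Finset.coe_filter]
    rw [show {x | f x = c} = F.pt '' {w | w ∈ Finset.univ ∧ f (F.pt w) = c} by
      ext y; constructor
      · intro hy; exact ⟨F.pt.symm y, ⟨Finset.mem_univ _, by simpa using hy⟩, by simp⟩
      · rintro ⟨w, ⟨-, hw⟩, rfl⟩; exact hw]
    exact (Set.ncard_image_of_injective _ F.pt.injective).symm
  have hmap : C.map (addRightEmbedding (F.tr (g : P))) = C := by
    refine Finset.eq_of_subset_of_card_le (fun w hw => ?_) (Finset.card_map _).ge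
    obtain ⟨v, hv, rfl⟩ := Finset.mem_map.1 hw
    refine Finset.mem_filter.2 ⟨Finset.mem_univ _, ?_⟩
    show f (F.pt (v + F.tr (g : P))) = c
    rw [← htr v, show f ((g : P) • F.pt v) = f (F.pt v) from g.2 _]
    exact (Finset.mem_filter.1 hv).2
  have hsum := congrArg (fun S : Finset F.W => ∑ w ∈ S, w) hmap
  simp only [Finset.sum_map, addRightEmbedding_apply, Finset.sum_add_distrib, Finset.sum_const, add_eq_left] at hsum
  haveI := Fact.mk F.hs
  rw [← Nat.cast_smul_eq_nsmul (ZMod F.s)] at hsum
  have h0 : F.tr (g : P) = 0 := by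
    refine (smul_eq_zero.1 hsum).resolve_left fun h => hc ?_
    rw [ZMod.natCast_eq_zero_iff, hC] at h
    exact h
  obtain ⟨w, rfl⟩ := F.pt.surjective x
  show (g : P) • F.pt w = F.pt w
  rw [htr, h0, add_zero]

theorem not_solvable_five : ¬ Group.IsSolvable (Equiv.Perm (Fin 5)) := Equiv.Perm.not_isSolvable_fin_5

/-- Five inequivalent colourings by five colours with trivial stabiliser. -/
theorem cols_five [Finite P] [Group.IsSolvable P] [Finite Ω] [FaithfulSMul P Ω] [Nontrivial Ω]
    (hprim : MulAction.IsPreprimitive P Ω) : Cols P Ω 5 5 0 := by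
  classical
  haveI := Fintype.ofFinite Ω
  have htriv : ∀ f : Ω → Fin 5, (∀ g : P, (∀ x, f (g • x) = f x) → g = 1) → Triv (colStab P f) Ω 0 :=
    fun f hf g _ x => by rw [show g = 1 from Subtype.ext (hf g g.2), one_smul]
  by_cases hn : Fintype.card Ω < 5
  · -- injective colourings with different images
    obtain ⟨S, hS5, hS⟩ : ∃ S : Fin 5 → Finset (Fin 5), Function.Injective S ∧ ∀ i, (S i).card = Fintype.card Ω := by
      have h2 : 2 ≤ Fintype.card Ω := Fintype.one_lt_card
      interval_cases (Fintype.card Ω)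
      · exact ⟨![{0, 1}, {0, 2}, {0, 3}, {0, 4}, {1, 2}], by decide, by decide⟩
      · exact ⟨![{0, 1, 2}, {0, 1, 3}, {0, 1, 4}, {0, 2, 3}, {0, 2, 4}], by decide, by decide⟩
      · exact ⟨![{0, 1, 2, 3}, {0, 1, 2, 4}, {0, 1, 3, 4}, {0, 2, 3, 4}, {1, 2, 3, 4}], by decide, by decide⟩
    let e : ∀ i, Ω ≃ S i := fun i => Fintype.equivOfCardEq (by rw [Fintype.card_coe, hS])
    refine ⟨fun i x => (e i x : Fin 5), fun i j hij a => ?_, fun i => htriv _ fun g hg => ?_⟩
    · by_contra hall
      push Not at hall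
      refine hij (hS5 (Finset.eq_of_subset_of_card_le (fun c hc => ?_) (by rw [hS, hS])))
      have h := hall ((e i).symm ⟨c, hc⟩)
      rw [(e i).apply_symm_apply] at h
      simp only at h
      rw [← h]; exact (e j _).2
    · exact eq_of_smul_eq_smul (α := Ω) fun x => by
        rw [one_smul]; exact (e i).injective (Subtype.ext (hg x))
  -- a surjective colouring with trivial stabiliser
  have hne : {c : Ω → Fin 5 | ∀ g : P, (∀ x, c (g • x) = c x) → g = 1}.Nonempty := BaseThree.exists_five hprim
  obtain ⟨c, hc, hmax⟩ := (Set.toFinite {c : Ω → Fin 5 | ∀ g : P, (∀ x, c (g • x) = c x) → g = 1}).exists_maximalFor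
    (fun c => (Finset.univ.image c).card) _ hne
  have hsurj : Function.Surjective c := by
    by_contra hns
    simp only [Function.Surjective, not_forall, not_exists] at hns
    obtain ⟨i, hi⟩ := hns
    have hlt : (Finset.univ.image c).card < (Finset.univ : Finset Ω).card := by
      refine lt_of_le_of_lt (Finset.card_le_card (t := Finset.univ.erase i) fun y hy => ?_) ?_
      · obtain ⟨x, -, rfl⟩ := Finset.mem_image.1 hy
        exact Finset.mem_erase.2 ⟨hi x, Finset.mem_univ _⟩
      · rw [Finset.card_erase_of_mem (Finset.mem_univ _), Finset.card_univ, Finset.card_univ, Fintype.card_fin]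
        omega
    obtain ⟨x₁, -, x₂, -, hne12, he12⟩ := Finset.exists_ne_map_eq_of_card_lt_of_maps_to hlt
      (fun x _ => Finset.mem_image_of_mem c (Finset.mem_univ x))
    let c' : Ω → Fin 5 := Function.update c x₁ i
    have hold : ∀ x, c x = if c' x = i then c x₁ else c' x := fun x => by
      by_cases hx : x = x₁
      · subst hx; simp [c']
      · simp [c', hx, hi x]
    have hc' : c' ∈ {c : Ω → Fin 5 | ∀ g : P, (∀ x, c (g • x) = c x) → g = 1} := fun g hg =>
      hc g fun x => by rw [hold, hold x, hg x]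
    have hsub : insert i (Finset.univ.image c) ⊆ Finset.univ.image c' := by
      intro y hy
      rcases Finset.mem_insert.1 hy with rfl | hy
      · exact Finset.mem_image.2 ⟨x₁, Finset.mem_univ _, by simp [c']⟩
      · obtain ⟨x, -, rfl⟩ := Finset.mem_image.1 hy
        by_cases hx : x = x₁
        · subst hx
          exact Finset.mem_image.2 ⟨x₂, Finset.mem_univ _, by simp [c', Ne.symm hne12, he12]⟩
        · exact Finset.mem_image.2 ⟨x, Finset.mem_univ _, by simp [c', hx]⟩
    have hnotin : i ∉ Finset.univ.image c := fun h => by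
      obtain ⟨x, -, hx⟩ := Finset.mem_image.1 h; exact hi x hx
    have h1 := Finset.card_le_card hsub
    rw [Finset.card_insert_of_notMem hnotin] at h1
    have := hmax hc' (show (Finset.univ.image c).card ≤ (Finset.univ.image c').card by omega)
    simp only at this
    omega
  -- colour permutations realised by the group
  let H : Subgroup P :=
    { carrier := {g | ∃ π : Equiv.Perm (Fin 5), ∀ x, c (g • x) = π (c x)}
      one_mem' := ⟨1, fun x => by rw [one_smul]; rfl⟩
      mul_mem' := by
        rintro g h ⟨π, hπ⟩ ⟨σ, hσ⟩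
        exact ⟨π * σ, fun x => by rw [mul_smul, hπ, hσ]; rfl⟩
      inv_mem' := by
        rintro g ⟨π, hπ⟩
        refine ⟨π⁻¹, fun x => ?_⟩
        have h := hπ (g⁻¹ • x)
        rw [smul_inv_smul] at h
        rw [h]; exact (π.symm_apply_apply _).symm }
  have hpi : ∀ g : H, ∃ π : Equiv.Perm (Fin 5), ∀ x, c ((g : P) • x) = π (c x) := fun g => g.2
  choose π hπ using hpi
  have huniq : ∀ (g : H) (σ : Equiv.Perm (Fin 5)), (∀ x, c ((g : P) • x) = σ (c x)) → π g = σ := by
    intro g σ h
    refine Equiv.ext fun y => ?_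
    obtain ⟨x, rfl⟩ := hsurj y
    rw [← hπ, h]
  let ψ : H →* Equiv.Perm (Fin 5) :=
    { toFun := π
      map_one' := huniq 1 1 fun x => by rw [Subgroup.coe_one, one_smul]; rfl
      map_mul' := fun g h => huniq _ _ fun x => by rw [Subgroup.coe_mul, mul_smul, hπ, hπ]; rfl }
  haveI : Group.IsSolvable ψ.range := Group.isSolvable_of_surjective ψ.rangeRestrict_surjective
  have hidx : 5 ≤ ψ.range.index := BaseThree.five_le_index not_solvable_five _
  obtain ⟨q, hq⟩ : ∃ q : Fin 5 → Equiv.Perm (Fin 5) ⧸ ψ.range, Function.Injective q := by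
    haveI := Fintype.ofFinite (Equiv.Perm (Fin 5) ⧸ ψ.range)
    have h5 : Fintype.card (Fin 5) ≤ Fintype.card (Equiv.Perm (Fin 5) ⧸ ψ.range) := by
      rw [Fintype.card_fin, ← Nat.card_eq_fintype_card]; exact hidx
    obtain ⟨q⟩ := Function.Embedding.nonempty_of_card_le h5
    exact ⟨q, q.injective⟩
  refine ⟨fun i x => (q i).out (c x), fun i j hij a => ?_, fun i => htriv _ fun g hg => hc g fun x =>
    (q i).out.injective (hg x)⟩
  by_contra hall
  push Not at hall
  refine hij (hq ?_)
  have hmem : a ∈ H := ⟨(q j).out⁻¹ * (q i).out, fun x => (q j).out.injective (by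
    rw [hall x]; exact ((q j).out.apply_symm_apply _).symm)⟩
  have hψ : ψ ⟨a, hmem⟩ = (q j).out⁻¹ * (q i).out := huniq _ _ fun x => (q j).out.injective (by
    rw [hall x]; exact ((q j).out.apply_symm_apply _).symm)
  calc q i = ((q i).out : Equiv.Perm (Fin 5) ⧸ ψ.range) := (QuotientGroup.out_eq' _).symm
    _ = ((q j).out : Equiv.Perm (Fin 5) ⧸ ψ.range) := (QuotientGroup.eq.2 (hψ ▸ ⟨_, rfl⟩)).symm
    _ = q j := QuotientGroup.out_eq' _

end Cfsg.Agent.VecCentralizer
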