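import Cfsg.Agent.EqLemmas
import Mathlib.GroupTheory.GroupAction.Basic
import Mathlib.GroupTheory.GroupAction.Quotient
import Mathlib.SetTheory.Cardinal.Finite
import Mathlib.Data.Set.Card
import Mathlib.Tactic

/-! Inequivalent points in a large set. -/

set_option autoImplicit false

namespace Cfsg.Agent.VecCentralizer

variable {G X : Type*} [Group G] [Finite G] [MulAction G X] [Finite X]

/-- More than `|G|` times as many points give inequivalent ones. -/
theorem exists_inequiv (S : Set X) : ∀ k : ℕ, k * Nat.card G < S.ncard + Nat.card G →
    ∃ v : Fin k → X, (∀ i, v i ∈ S) ∧ ∀ i j, i ≠ j → ∀ a : G, a • v i ≠ v j := by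
  intro k
  induction k with
  | zero => exact fun _ => ⟨Fin.elim0, fun i => i.elim0, fun i => i.elim0⟩
  | succ k ih =>
    intro h
    rw [Nat.succ_mul] at h
    have hG : 0 < Nat.card G := Nat.card_pos
    obtain ⟨v, hv, hv'⟩ := ih (by omega)
    let T : Set X := ⋃ i : Fin k, MulAction.orbit G (v i)
    have hTc : T.ncard ≤ k * Nat.card G := by
      refine (Set.ncard_iUnion_le_of_fintype _).trans ?_
      refine (Finset.sum_le_card_nsmul _ _ (Nat.card G) fun i _ => ?_).trans_eq (by simp)
      rw [← Nat.card_coe_set_eq]
      exact Nat.card_le_card_of_surjective (fun a : G => (⟨a • v i, a, rfl⟩ : MulAction.orbit G (v i)))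
        (by rintro ⟨_, a, rfl⟩; exact ⟨a, rfl⟩)
    obtain ⟨x, hxS, hxT⟩ := Set.exists_mem_notMem_of_ncard_lt_ncard (show T.ncard < S.ncard by omega) (Set.toFinite T)
    refine ⟨Fin.snoc v x, fun i => ?_, fun i j hij a => ?_⟩
    · induction i using Fin.lastCases with
      | last => simpa using hxS
      | cast i => simpa using hv i
    · induction i using Fin.lastCases with
      | last =>
        induction j using Fin.lastCases with
        | last => exact absurd rfl hij
        | cast j =>
          simp only [Fin.snoc_last, Fin.snoc_castSucc]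
          intro he
          exact hxT (Set.mem_iUnion.2 ⟨j, a⁻¹, inv_smul_eq_iff.2 he.symm⟩)
      | cast i =>
        induction j using Fin.lastCases with
        | last =>
          simp only [Fin.snoc_last, Fin.snoc_castSucc]
          intro he
          exact hxT (Set.mem_iUnion.2 ⟨i, a, he⟩)
        | cast j =>
          simp only [Fin.snoc_castSucc]
          exact hv' i j (fun e => hij (by rw [e])) a

end Cfsg.Agent.VecCentralizer
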