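import Cfsg.Agent.Lib.VecCentralizer.Prim
import Cfsg.Agent.Lib.VecCentralizer.Pick
import Cfsg.Agent.Lib.OddBaseTwo.Fixed
import Cfsg.Agent.Lib.BaseThree.Main

/-! Order and fixed points in a primitive group. -/

set_option autoImplicit false
set_option linter.style.haveILetI false

namespace Cfsg.Agent.VecCentralizer

open Subgroup
open OddBaseTwo (fixSub mem_fixSub ncard_fix Img CR)

variable {A : Type} [Group A] [Finite A] {V : Type} [AddCommGroup V] [Finite V] [DistribMulAction A V] {p : ℕ}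
  (D : PData A V p)

omit [Finite V] in
/-- A completely reducible solvable group has at most the cube of the module as order. -/
theorem card_img_le {W : Type} [AddCommGroup W] [Finite W] [DistribMulAction A W] [Group.IsSolvable A]
    (hcr : CR A W) : Nat.card (Img A W) ≤ Nat.card W ^ 3 := by
  obtain ⟨u, v, w, h⟩ := BaseThree.exists_three_vectors (A := Img A W) (OddBaseTwo.Img.cr_iff.2 hcr)
  calc Nat.card (Img A W) ≤ Nat.card (W × W × W) :=
        Nat.card_le_card_of_injective (fun a : Img A W => (a • u, a • v, a • w)) fun a b hab => by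
          simp only [Prod.mk.injEq] at hab
          refine (inv_mul_eq_one.1 (h (b⁻¹ * a) ?_ ?_ ?_)).symm
          · rw [mul_smul, hab.1, inv_smul_smul]
          · rw [mul_smul, hab.2.1, inv_smul_smul]
          · rw [mul_smul, hab.2.2, inv_smul_smul]
    _ = _ := by rw [Nat.card_prod, Nat.card_prod]; ring

/-- The order, given a bound for the action on the section. -/
theorem PData.card_le_of {b : ℕ} (hb : ∀ (W : Type) [AddCommGroup W] [Finite W] [DistribMulAction A W],
      Nat.card W = D.e * D.e → CR A W → Nat.card (Img A W) ≤ b) :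
    Nat.card A ≤ D.d * Nat.card D.U * (D.e * D.e) * b := by
  obtain ⟨W, i1, i2, i3, hW, hcr, hker⟩ := D.sec
  set K := (MulAction.toPermHom A W).ker
  set C := centralizer (D.U : Set A)
  have hle : C ⊓ K ≤ D.M := fun g hg => D.hK g hg.1 ((hker g).1 fun x => Equiv.congr_fun (MonoidHom.mem_ker.1 hg.2) x)
  have h1 : (C ⊓ K).index ≤ D.d * b := by
    refine Subgroup.index_inf_le.trans (Nat.mul_le_mul (Nat.le_of_dvd D.hd D.hidx) ?_)
    rw [← OddBaseTwo.Img.card]
    exact hb W hW hcr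
  rw [← (C ⊓ K).index_mul_card]
  calc (C ⊓ K).index * Nat.card ↥(C ⊓ K) ≤ D.d * b * Nat.card D.M :=
        Nat.mul_le_mul h1 (Nat.le_of_dvd Nat.card_pos (card_dvd_of_le hle))
    _ = _ := by rw [D.hMcard]; ring

theorem PData.card_le [Group.IsSolvable A] (hp : p.Prime) :
    Nat.card A ≤ p ^ D.d * p ^ D.d * D.e ^ 8 := by
  refine (D.card_le_of (b := (D.e * D.e) ^ 3) fun W _ _ _ hW hcr => hW ▸ card_img_le hcr).trans ?_
  have h1 : D.d ≤ p ^ D.d := (Nat.lt_pow_self hp.one_lt).le
  have h2 : Nat.card D.U ≤ p ^ D.d :=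
    (Nat.le_of_dvd (by have := Nat.one_lt_pow D.hd.ne' hp.one_lt; omega) D.hUdvd).trans (Nat.sub_le _ _)
  calc D.d * Nat.card D.U * (D.e * D.e) * (D.e * D.e) ^ 3 ≤ p ^ D.d * p ^ D.d * (D.e * D.e) * (D.e * D.e) ^ 3 := by
        gcongr
    _ = _ := by ring

/-- Elements commuting with a noncommuting partner fix few vectors. -/
theorem PData.fix_sq {u : A} (hu : u ∈ D.M) (hu1 : u ≠ 1) :
    Nat.card (fixSub (V := V) u) * Nat.card (fixSub (V := V) u) ≤ Nat.card V := by
  by_cases huU : u ∈ D.U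
  · have hbot : fixSub (V := V) u = ⊥ := (AddSubgroup.eq_bot_iff_forall _).2 (D.hfpf u huU hu1)
    rw [hbot, AddSubgroup.card_bot, one_mul]
    exact Nat.card_pos
  · obtain ⟨v, hv, hne⟩ : ∃ v ∈ D.M, u * v ≠ v * u := by
      by_contra hc
      push Not at hc
      exact huU (D.hnd u hu hc)
    have ha1 : u * v * u⁻¹ * v⁻¹ ≠ 1 := fun e => hne (mul_inv_eq_iff_eq_mul.1 (mul_inv_eq_one.1 e))
    have hbot : fixSub (V := V) (u * v * u⁻¹ * v⁻¹) = ⊥ :=
      (AddSubgroup.eq_bot_iff_forall _).2 (D.hfpf _ (D.hcomm u hu v hv) ha1)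
    have := OddBaseTwo.sq_fix_le (V := V) u v
    rwa [hbot, AddSubgroup.card_bot, mul_one] at this

theorem PData.exists_partner {g : A} (hg : g ∉ D.M) : ∃ y ∈ D.M, g * y ≠ y * g := by
  by_contra hc
  push Not at hc
  exact hg (D.hUM (D.hfaith g (mem_centralizer_iff.2 fun a ha => (hc a (D.hUM ha)).symm) hc))

include D in
/-- Fixed vectors of the non-trivial elements. -/
theorem PData.fix_four (g : A) (hg : g ≠ 1) : Nat.card (fixSub (V := V) g) ^ 4 ≤ Nat.card V ^ 3 := by
  have hV : 1 ≤ Nat.card V := Nat.card_pos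
  by_cases hgM : g ∈ D.M
  · calc Nat.card (fixSub (V := V) g) ^ 4 = (Nat.card (fixSub (V := V) g) * Nat.card (fixSub (V := V) g)) ^ 2 := by ring
      _ ≤ Nat.card V ^ 2 := Nat.pow_le_pow_left (D.fix_sq hgM hg) 2
      _ ≤ _ := Nat.pow_le_pow_right hV (by norm_num)
  obtain ⟨y, hy, hne⟩ := D.exists_partner hgM
  set f := g * y * g⁻¹ * y⁻¹
  have hfM : f ∈ D.M := D.M.mul_mem (D.nM.conj_mem y hy g) (D.M.inv_mem hy)
  have hf1 : f ≠ 1 := fun e => hne (mul_inv_eq_iff_eq_mul.1 (mul_inv_eq_one.1 e))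
  calc Nat.card (fixSub (V := V) g) ^ 4 = (Nat.card (fixSub (V := V) g) * Nat.card (fixSub (V := V) g)) ^ 2 := by ring
    _ ≤ (Nat.card V * Nat.card (fixSub (V := V) f)) ^ 2 := Nat.pow_le_pow_left (OddBaseTwo.sq_fix_le g y) 2
    _ = Nat.card V ^ 2 * (Nat.card (fixSub (V := V) f) * Nat.card (fixSub (V := V) f)) := by ring
    _ ≤ Nat.card V ^ 2 * Nat.card V := Nat.mul_le_mul_left _ (D.fix_sq hfM hf1)
    _ = _ := by ring

/-- Vectors fixed by one of a set of elements. -/
theorem fixed_union_le (S : Set A) (hS : S.Finite) {X : ℕ} (h : ∀ g ∈ S, Nat.card (fixSub (V := V) g) ≤ X) :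
    {v : V | ∃ g ∈ S, g • v = v}.ncard ≤ S.ncard * X := by
  classical
  have : Fintype S := hS.fintype
  have heq : {v : V | ∃ g ∈ S, g • v = v} = ⋃ g : S, {v : V | (g : A) • v = v} := by
    ext v; simp
  rw [heq]
  refine (Set.ncard_iUnion_le_of_fintype _).trans ((Finset.sum_le_card_nsmul _ _ X fun g _ => ?_).trans_eq ?_)
  · rw [ncard_fix]; exact h _ g.2
  · rw [smul_eq_mul, Finset.card_univ, ← Nat.card_eq_fintype_card, Nat.card_coe_set_eq]

end Cfsg.Agent.VecCentralizer
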