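import Cfsg.Agent.Lib.VecCentralizer.Table

/-! The numerical inequalities for orbit counting. -/

set_option autoImplicit false

namespace Cfsg.Agent.VecCentralizer

/-- Growth of powers. -/
theorem pow_growth {b c n e N : ℕ} (hn : 0 < n) (h : c * n ^ N ≤ b ^ n) (hstep : (n + 1) ^ N ≤ b * n ^ N)
    (hne : n ≤ e) : c * e ^ N ≤ b ^ e := by
  induction e, hne using Nat.le_induction with
  | base => exact h
  | succ e hne ih =>
    have h1 : (n * (e + 1)) ^ N ≤ ((n + 1) * e) ^ N :=
      Nat.pow_le_pow_left (by rw [Nat.mul_succ, Nat.succ_mul]; omega) N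
    rw [mul_pow, mul_pow] at h1
    have h2 : n ^ N * (e + 1) ^ N ≤ n ^ N * (b * e ^ N) := h1.trans
      ((Nat.mul_le_mul_right _ hstep).trans_eq (by ring))
    have h3 := Nat.le_of_mul_le_mul_left h2 (pow_pos hn N)
    calc c * (e + 1) ^ N ≤ c * (b * e ^ N) := Nat.mul_le_mul_left c h3
      _ = b * (c * e ^ N) := by ring
      _ ≤ b * b ^ e := Nat.mul_le_mul_left b ih
      _ = _ := by rw [pow_succ']

theorem few_bound {q e : ℕ} (hq : 3 ≤ q) (he : 32 ≤ e) : 8 * (q * q * e ^ 8) + 2 ≤ q ^ e := by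
  have h1 : 81 * e ^ 8 ≤ 3 ^ e :=
    pow_growth (by norm_num : 0 < 32) (by norm_num) (by norm_num) he
  obtain ⟨t, rfl⟩ : ∃ t, e = 2 + t := ⟨e - 2, by omega⟩
  rw [pow_add 3, show (3 : ℕ) ^ 2 = 9 by norm_num] at h1
  have h2 : 3 ^ t ≤ q ^ t := Nat.pow_le_pow_left hq t
  have h4 : 9 * (2 + t) ^ 8 ≤ q ^ t := by omega
  have h5 : q * q * (9 * (2 + t) ^ 8) ≤ q * q * q ^ t := Nat.mul_le_mul_left _ h4
  have h6 : 2 ≤ q * q * (2 + t) ^ 8 := by
    have : 1 ≤ (2 + t) ^ 8 := Nat.one_le_pow _ _ (by omega)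
    nlinarith
  calc 8 * (q * q * (2 + t) ^ 8) + 2 ≤ q * q * (9 * (2 + t) ^ 8) := by linarith
    _ ≤ _ := h5
    _ = _ := by ring

theorem regular_bound {q e : ℕ} (hq : 3 ≤ q) (he : 256 ≤ e) : (2 * (q * q * e ^ 8)) ^ 4 ≤ q ^ e := by
  have h1 : (16 * 3 ^ 8) * e ^ 32 ≤ 3 ^ e :=
    pow_growth (by norm_num : 0 < 256) (by norm_num) (by norm_num) he
  obtain ⟨t, rfl⟩ : ∃ t, e = 8 + t := ⟨e - 8, by omega⟩
  rw [pow_add 3 8 t, show 16 * 3 ^ 8 * (8 + t) ^ 32 = 3 ^ 8 * (16 * (8 + t) ^ 32) by ring] at h1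
  have h2 : 16 * (8 + t) ^ 32 ≤ q ^ t := (Nat.le_of_mul_le_mul_left h1 (by positivity)).trans (Nat.pow_le_pow_left hq t)
  calc (2 * (q * q * (8 + t) ^ 8)) ^ 4 = q ^ 8 * (16 * (8 + t) ^ 32) := by ring
    _ ≤ q ^ 8 * q ^ t := Nat.mul_le_mul_left _ h2
    _ = _ := (pow_add q 8 t).symm

theorem T_le_eight_aux : ∀ r ∈ [2, 3, 5], ∀ k ∈ List.range 17, k ≤ dimMax r →
    T r k ≤ 8 ∧ ((r = 2 → k ≤ 9) → (r = 3 → k ≤ 6) → (r = 5 → k ≤ 4) → T r k ≤ 6) := by
  decide +kernel

theorem section_small {s i e : ℕ} (hs : s.Prime) (hi : 1 ≤ i) (hdvd : s ^ i ∣ e * e) (he0 : 0 < e) :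
    (e < 256 → Covered s i ∧ T s i ≤ 8) ∧ (e < 32 → Covered s i ∧ T s i ≤ 6) := by
  have hle : s ^ i ≤ e * e := Nat.le_of_dvd (Nat.mul_pos he0 he0) hdvd
  have h2 := hs.two_le
  have hb : ∀ B n L : ℕ, e < B → B * B ≤ L ^ n → L ≤ s → i < n := fun B n L hB hL hLs => by
    by_contra hc
    have h3 : e * e < B * B := Nat.mul_lt_mul'' hB hB
    have h4 : L ^ n ≤ s ^ i := (Nat.pow_le_pow_left hLs n).trans (Nat.pow_le_pow_right hs.pos (by omega))
    omega
  have h57 : 2 < s → 3 < s → 5 ≤ s := fun a b => by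
    rcases Nat.lt_or_ge s 5 with h | h
    · exact absurd ((show s = 4 by omega) ▸ hs) (by norm_num)
    · exact h
  have hc : cls s = if s = 2 then 2 else if s = 3 then 3 else 5 := rfl
  constructor
  · intro he
    have hcov : Covered s i := by
      refine ⟨hi, ?_⟩
      unfold dimMax
      split_ifs with a b
      · have := hb 256 16 2 he (by norm_num) (by omega); omega
      · have := hb 256 11 3 he (by norm_num) (by omega); omega
      · have := hb 256 7 5 he (by norm_num) (h57 (by omega) (by omega)); omega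
    refine ⟨hcov, ?_⟩
    rw [← T_cls]
    exact (T_le_eight_aux _ (cls_mem s) i (List.mem_range.2 (by have := dimMax_le s; have := hcov.2; omega))
      (by rw [dimMax_cls]; exact hcov.2)).1
  · intro he
    have hcov : Covered s i := by
      refine ⟨hi, ?_⟩
      unfold dimMax
      split_ifs with a b
      · have := hb 32 10 2 he (by norm_num) (by omega); omega
      · have := hb 32 7 3 he (by norm_num) (by omega); omega
      · have := hb 32 5 5 he (by norm_num) (h57 (by omega) (by omega)); omega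
    refine ⟨hcov, ?_⟩
    rw [← T_cls]
    refine (T_le_eight_aux _ (cls_mem s) i (List.mem_range.2 (by have := dimMax_le s; have := hcov.2; omega))
      (by rw [dimMax_cls]; exact hcov.2)).2 ?_ ?_ ?_ <;> intro hcs <;> rw [hc] at hcs <;> split_ifs at hcs with a b <;> (try omega)
    · have := hb 32 10 2 he (by norm_num) (by omega); omega
    · have := hb 32 7 3 he (by norm_num) (by omega); omega
    · have := hb 32 5 5 he (by norm_num) (h57 (by omega) (by omega)); omega

theorem small_transitive {p k : ℕ} (hp : p.Prime) (hk : 1 ≤ k)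
    (h : p ^ k ∈ ({9, 25, 49, 121, 529, 81} : Set ℕ)) : Covered p k ∧ T p k ≤ 5 := by
  simp only [Set.mem_insert_iff, Set.mem_singleton_iff] at h
  have hk4 : k ≤ 9 := by
    by_contra hc
    have : 2 ^ 10 ≤ p ^ k := (Nat.pow_le_pow_left hp.two_le 10).trans (Nat.pow_le_pow_right hp.pos (by omega))
    norm_num at this
    omega
  have key : ∀ q : ℕ, q.Prime → q ∣ p ^ k → p = q := fun q hq hd =>
    ((Nat.prime_dvd_prime_iff_eq hq hp).1 (hq.dvd_of_dvd_pow hd)).symm
  rcases h with h | h | h | h | h | h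
  · obtain rfl := key 3 (by norm_num) (h ▸ by norm_num)
    interval_cases k <;> first | (norm_num at h; done) | exact ⟨⟨by omega, by decide⟩, by decide⟩
  · obtain rfl := key 5 (by norm_num) (h ▸ by norm_num)
    interval_cases k <;> first | (norm_num at h; done) | exact ⟨⟨by omega, by decide⟩, by decide⟩
  · obtain rfl := key 7 (by norm_num) (h ▸ by norm_num)
    interval_cases k <;> first | (norm_num at h; done) | exact ⟨⟨by omega, by decide⟩, by decide⟩
  · obtain rfl := key 11 (by norm_num) (h ▸ by norm_num)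
    interval_cases k <;> first | (norm_num at h; done) | exact ⟨⟨by omega, by decide⟩, by decide⟩
  · obtain rfl := key 23 (by norm_num) (h ▸ by norm_num)
    interval_cases k <;> first | (norm_num at h; done) | exact ⟨⟨by omega, by decide⟩, by decide⟩
  · obtain rfl := key 3 (by norm_num) (h ▸ by norm_num)
    interval_cases k <;> first | (norm_num at h; done) | exact ⟨⟨by omega, by decide⟩, by decide⟩

end Cfsg.Agent.VecCentralizer
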