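import Cfsg.Agent.Lib.VecCentralizer.ColBasic
import Cfsg.Agent.Lib.VecCentralizer.Numeric
import Cfsg.Agent.Lib.VecCentralizer.Pick
import Cfsg.Agent.Lib.VecCentralizer.Count

/-! Regular colourings in large degree. -/

set_option autoImplicit false
set_option linter.style.haveILetI false

namespace Cfsg.Agent.VecCentralizer

variable {P Ω : Type} [Group P] [Finite P] [MulAction P Ω] [Finite Ω] [FaithfulSMul P Ω]

/-- The order of a primitive solvable group. -/
theorem Aff.card_group_le [Group.IsSolvable P] (F : Aff P Ω) : Nat.card P ≤ Nat.card Ω ^ 4 := by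
  have h1 : Nat.card P ≤ Nat.card F.W * Nat.card (OddBaseTwo.Img P F.W) := by
    rw [← Nat.card_prod]
    refine Nat.card_le_card_of_injective
      (fun g => (F.tr g, (OddBaseTwo.Img.of g : OddBaseTwo.Img P F.W))) fun a b h => ?_
    simp only [Prod.mk.injEq] at h
    refine eq_of_smul_eq_smul (α := Ω) fun x => ?_
    obtain ⟨w, rfl⟩ := F.pt.surjective x
    rw [F.haff, F.haff, h.1, show a • w = b • w by rw [← OddBaseTwo.Img.of_smul, h.2, OddBaseTwo.Img.of_smul]]
  refine h1.trans ?_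
  calc Nat.card F.W * Nat.card (OddBaseTwo.Img P F.W) ≤ Nat.card F.W * Nat.card F.W ^ 3 :=
        Nat.mul_le_mul_left _ (card_img_le F.irr.cr)
    _ = _ := by rw [F.card_eq]; ring

omit [Finite P] in
/-- Fixed points of a non-trivial element. -/
theorem Aff.fix_le (F : Aff P Ω) {g : P} (hg : g ≠ 1) : F.s * {x : Ω | g • x = x}.ncard ≤ Nat.card Ω := by
  rcases Set.eq_empty_or_nonempty {x : Ω | g • x = x} with h | ⟨x₀, hx₀⟩
  · rw [h, Set.ncard_empty, Nat.mul_zero]; exact Nat.zero_le _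
  haveI := Fact.mk F.hs
  obtain ⟨w₀, rfl⟩ := F.pt.surjective x₀
  have hw₀ : g • w₀ + F.tr g = w₀ := F.pt.injective ((F.haff g w₀).symm.trans hx₀)
  let B : AddSubgroup F.W := OddBaseTwo.fixSub g
  have heq : {x : Ω | g • x = x} = (fun b : F.W => F.pt (w₀ + b)) '' (B : Set F.W) := by
    ext x
    obtain ⟨w, rfl⟩ := F.pt.surjective x
    constructor
    · intro hx
      have hw : g • w + F.tr g = w := F.pt.injective ((F.haff g w).symm.trans hx)
      refine ⟨w - w₀, ?_, by simp⟩
      show g • (w - w₀) = w - w₀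
      rw [smul_sub]
      calc g • w - g • w₀ = (g • w + F.tr g) - (g • w₀ + F.tr g) := by abel
        _ = _ := by rw [hw, hw₀]
    · rintro ⟨b, hb, he⟩
      have hb : g • b = b := hb
      obtain rfl : w₀ + b = w := F.pt.injective he
      show g • F.pt (w₀ + b) = F.pt (w₀ + b)
      rw [F.haff, smul_add, hb]
      congr 1
      conv_rhs => rw [← hw₀]
      abel
  have hB : B ≠ ⊤ := by
    intro htop
    refine hg (eq_of_smul_eq_smul (α := Ω) fun x => ?_)
    have hall : ∀ w : F.W, g • w = w := fun w => (htop ▸ AddSubgroup.mem_top w : w ∈ B)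
    obtain ⟨w, rfl⟩ := F.pt.surjective x
    rw [one_smul, F.haff, hall]
    rw [hall] at hw₀
    rw [show F.tr g = 0 from add_eq_left.1 hw₀, add_zero]
  rw [heq, Set.ncard_image_of_injective _ (fun a b h => add_left_cancel (F.pt.injective h)),
    ← Nat.card_coe_set_eq, ← F.card_eq, ← B.index_mul_card]
  refine Nat.mul_le_mul_right _ ?_
  obtain ⟨i, -, hi⟩ := F.exists_pow
  have hdvd : B.index ∣ F.s ^ i := by rw [← hi, ← F.card_eq]; exact B.index_dvd_card
  obtain ⟨j, -, hj⟩ := (Nat.dvd_prime_pow F.hs).1 hdvd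
  rw [hj]
  refine Nat.le_self_pow ?_ _
  rintro rfl
  exact hB (AddSubgroup.index_eq_one.1 (by rw [hj, pow_zero]))

omit [Finite P] [FaithfulSMul P Ω] in
/-- Colourings fixed by an element. -/
theorem fixed_colourings (m : ℕ) (g : P) : ∃ c : ℕ, 2 * c ≤ Nat.card Ω + {x : Ω | g • x = x}.ncard ∧
    {f : Ω → Fin m | ∀ x, f (g • x) = f x}.ncard ≤ m ^ c := by
  classical
  let H := Subgroup.zpowers g
  let Q := MulAction.orbitRel.Quotient H Ω
  refine ⟨Nat.card Q, ?_, ?_⟩
  · let j : Q ⊕ Q → Ω ⊕ {x : Ω | g • x = x} := fun z => match z with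
      | Sum.inl q => Sum.inl q.out
      | Sum.inr q => if h : g • q.out = q.out then Sum.inr ⟨q.out, h⟩ else Sum.inl (g • q.out)
    have hmk : ∀ q : Q, Quotient.mk'' (g • q.out) = q := fun q => by
      conv_rhs => rw [← Quotient.out_eq' q]
      exact Quotient.sound' ⟨⟨g, Subgroup.mem_zpowers g⟩, rfl⟩
    have hj : Function.Injective j := by
      rintro (q | q) (q' | q') h
      · simp only [j, Sum.inl.injEq] at h
        rw [← Quotient.out_eq' q, ← Quotient.out_eq' q', h]
      · simp only [j] at h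
        split_ifs at h with hf
        simp only [Sum.inl.injEq] at h
        have hqq : q = q' := by rw [← hmk q', ← h]; exact (Quotient.out_eq' q).symm
        subst hqq
        exact absurd h.symm hf
      · simp only [j] at h
        split_ifs at h with hf
        simp only [Sum.inl.injEq] at h
        have hqq : q' = q := by rw [← hmk q, h]; exact (Quotient.out_eq' q').symm
        subst hqq
        exact absurd h hf
      · simp only [j] at h
        split_ifs at h with hf hf' hf'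
        · simp only [Sum.inr.injEq, Subtype.mk.injEq] at h
          rw [← Quotient.out_eq' q, ← Quotient.out_eq' q', h]
        · simp only [Sum.inl.injEq] at h
          rw [← hmk q, ← hmk q', h]
    have := Nat.card_le_card_of_injective j hj
    rw [Nat.card_sum, Nat.card_sum, Nat.card_coe_set_eq] at this
    omega
  · rw [← Nat.card_coe_set_eq, show m ^ Nat.card Q = Nat.card (Q → Fin m) by rw [Nat.card_fun, Nat.card_fin]]
    refine Nat.card_le_card_of_injective (fun f q => f.1 q.out) fun f f' h => Subtype.ext (funext fun x => ?_)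
    have hinv : ∀ (f : {f : Ω → Fin m | ∀ x, f (g • x) = f x}) (k : H) (y : Ω), f.1 (k • y) = f.1 y := by
      intro f k y
      have : H ≤ colStab P f.1 := Subgroup.zpowers_le.2 f.2
      exact this k.2 y
    obtain ⟨k, hk⟩ : ∃ k : H, k • (Quotient.mk'' x : Q).out = x := by
      have : x ∈ MulAction.orbit H ((Quotient.mk'' x : Q).out) :=
        Quotient.exact' (Quotient.out_eq' (Quotient.mk'' x : Q)).symm
      exact this
    have hq : f.1 (Quotient.mk'' x : Q).out = f'.1 (Quotient.mk'' x : Q).out := congrFun h _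
    rw [← hk, hinv f, hinv f', hq]

/-- Many colourings with trivial stabiliser in large degree. -/
theorem cols_of_large [Group.IsSolvable P] (F : Aff P Ω) (m : ℕ) (hm : 2 ≤ m) (q : ℕ) (hn : 7 ≤ Nat.card Ω)
    (hq : (q = 4 ∧ F.s = 2) ∨ (q = 3 ∧ 3 ≤ F.s)) (hsize : (2 * Nat.card Ω ^ 4) ^ q ≤ m ^ Nat.card Ω) :
    Cols P Ω m 5 0 := by
  classical
  set n := Nat.card Ω
  have hP : Nat.card P ≤ n ^ 4 := F.card_group_le
  let bad : Set (Ω → Fin m) := {f | ∃ g : P, g ≠ 1 ∧ ∀ x, f (g • x) = f x}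
  have hc : ∀ g : P, g ≠ 1 → ∃ c, q * c ≤ (q - 1) * n ∧ {f : Ω → Fin m | ∀ x, f (g • x) = f x}.ncard ≤ m ^ c := by
    intro g hg
    obtain ⟨c, hc, hfix⟩ := fixed_colourings (P := P) (Ω := Ω) m g
    have hfl := F.fix_le hg
    refine ⟨c, ?_, hfix⟩
    rcases hq with ⟨rfl, hs⟩ | ⟨rfl, hs⟩
    · rw [hs] at hfl; omega
    · have : 3 * {x : Ω | g • x = x}.ncard ≤ n := (Nat.mul_le_mul_right _ hs).trans hfl
      omega
  have hq0 : q ≠ 0 := by omega
  obtain ⟨X, hX, hX'⟩ : ∃ X, (∀ g : P, g ≠ 1 → {f : Ω → Fin m | ∀ x, f (g • x) = f x}.ncard ≤ X) ∧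
      X ^ q ≤ m ^ ((q - 1) * n) := by
    by_cases hne : ∃ g : P, g ≠ 1
    · haveI : Nonempty {g : P // g ≠ 1} := let ⟨g, hg⟩ := hne; ⟨⟨g, hg⟩⟩
      obtain ⟨g₀, hg₀⟩ := Finite.exists_max fun g : {g : P // g ≠ 1} =>
        {f : Ω → Fin m | ∀ x, f ((g : P) • x) = f x}.ncard
      obtain ⟨c, hc1, hc2⟩ := hc g₀ g₀.2
      refine ⟨_, fun g hg => hg₀ ⟨g, hg⟩, (Nat.pow_le_pow_left hc2 q).trans ?_⟩
      rw [← pow_mul]
      exact Nat.pow_le_pow_right (by omega) (by rw [Nat.mul_comm]; exact hc1)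
    · exact ⟨0, fun g hg => absurd ⟨g, hg⟩ hne, by rw [zero_pow hq0]; exact Nat.zero_le _⟩
  have hbad : bad.ncard ≤ Nat.card P * X := by
    haveI := Fintype.ofFinite P
    have heq : bad = ⋃ g : {g : P // g ≠ 1}, {f : Ω → Fin m | ∀ x, f ((g : P) • x) = f x} := by
      ext f; simp [bad]
    rw [heq]
    refine (Set.ncard_iUnion_le_of_fintype _).trans ?_
    refine (Finset.sum_le_card_nsmul _ _ X fun (g : {g : P // g ≠ 1}) _ => hX (g : P) g.2).trans ?_
    rw [smul_eq_mul, Finset.card_univ, ← Nat.card_eq_fintype_card]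
    exact Nat.mul_le_mul_right _ (Finite.card_subtype_le _)
  have hn4 : 2401 ≤ n ^ 4 := le_trans (by norm_num) (Nat.pow_le_pow_left hn 4)
  have h2 : 2 * bad.ncard ≤ m ^ n := by
    rw [← Nat.pow_le_pow_iff_left hq0]
    calc (2 * bad.ncard) ^ q ≤ (2 * (n ^ 4 * X)) ^ q :=
          Nat.pow_le_pow_left (Nat.mul_le_mul_left _ (hbad.trans (Nat.mul_le_mul_right _ hP))) q
      _ = (2 * n ^ 4) ^ q * X ^ q := by rw [← mul_pow, mul_assoc]
      _ ≤ m ^ n * m ^ ((q - 1) * n) := Nat.mul_le_mul hsize hX'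
      _ = (m ^ n) ^ q := by
        rw [← pow_add, ← pow_mul]
        congr 1
        obtain ⟨r, rfl⟩ := Nat.exists_eq_succ_of_ne_zero hq0
        rw [Nat.succ_sub_one, Nat.mul_succ, Nat.mul_comm]; omega
  have h4 : 8 * Nat.card P < m ^ n := by
    have h5 : (2 * n ^ 4) ^ 2 ≤ (2 * n ^ 4) ^ q := Nat.pow_le_pow_right (by omega) (by omega)
    have h6 : 8 * n ^ 4 < (2 * n ^ 4) ^ 2 := by
      rw [pow_two]
      calc 8 * n ^ 4 < (2 * 2401) * (2 * n ^ 4) := by omega
        _ ≤ _ := Nat.mul_le_mul_right _ (by omega)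
    omega
  have htot : bad.ncard + badᶜ.ncard = m ^ n := by
    rw [Set.ncard_add_ncard_compl, Nat.card_fun, Nat.card_fin]
  -- colourings as an action
  letI act : MulAction P (Ω → Fin m) :=
    { smul := fun g f x => f (g⁻¹ • x)
      one_smul := fun f => funext fun x => by show f ((1 : P)⁻¹ • x) = f x; rw [inv_one, one_smul]
      mul_smul := fun g h f => funext fun x => by
        show f ((g * h)⁻¹ • x) = f (h⁻¹ • g⁻¹ • x); rw [mul_inv_rev, mul_smul] }
  obtain ⟨f, hf, hf'⟩ := exists_inequiv (G := P) badᶜ 5 (by omega)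
  refine ⟨f, fun i j hij a => ?_, fun i g _ x => ?_⟩
  · by_contra hall
    push Not at hall
    refine hf' i j hij a (funext fun x => ?_)
    show f i (a⁻¹ • x) = f j x
    rw [← hall (a⁻¹ • x), smul_inv_smul]
  · have hg1 : (g : P) = 1 := by
      by_contra hne
      exact hf i ⟨(g : P), hne, g.2⟩
    show (g : P) • x = x
    rw [hg1, one_smul]

theorem large_two {n : ℕ} (hn : 128 ≤ n) : (2 * n ^ 4) ^ 4 ≤ 2 ^ n := by
  rw [show (2 * n ^ 4) ^ 4 = 16 * n ^ 16 by ring]
  exact pow_growth (by norm_num : 0 < 128) (by norm_num) (by norm_num) hn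

theorem large_odd {n : ℕ} (hn : 81 ≤ n) : (2 * n ^ 4) ^ 3 ≤ 2 ^ n := by
  rw [show (2 * n ^ 4) ^ 3 = 8 * n ^ 12 by ring]
  exact pow_growth (by norm_num : 0 < 81) (by norm_num) (by norm_num) hn

end Cfsg.Agent.VecCentralizer
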