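import Cfsg.Agent.Lib.VecCentralizer.Imp

/-! Vectors of an induced module from colourings of the parts. -/

set_option autoImplicit false
set_option linter.style.haveILetI false

namespace Cfsg.Agent.VecCentralizer

/-- The stabiliser of a colouring. -/
def colStab (A : Type) {Ω ι : Type} [Group A] [MulAction A Ω] (f : Ω → ι) : Subgroup A where
  carrier := {g | ∀ x, f (g • x) = f x}
  one_mem' := fun x => by rw [one_smul]
  mul_mem' := fun {a b} ha hb x => by rw [mul_smul, ha, hb]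
  inv_mem' := fun {a} ha x => by
    have h := ha (a⁻¹ • x)
    rw [smul_inv_smul] at h
    exact h.symm

theorem mem_colStab {A Ω ι : Type} [Group A] [MulAction A Ω] {f : Ω → ι} {g : A} :
    g ∈ colStab A f ↔ ∀ x, f (g • x) = f x := Iff.rfl

/-- Pairwise inequivalent vectors whose stabilisers have small derived length. -/
def Vecs (A V : Type) [Group A] [AddCommGroup V] [DistribMulAction A V] (k L : ℕ) : Prop :=
  ∃ v : Fin k → V, (∀ i j, i ≠ j → ∀ a : A, a • v i ≠ v j) ∧ ∀ i, Triv (MulAction.stabilizer A (v i)) V L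

/-- Pairwise inequivalent colourings whose stabilisers have small derived length on the points. -/
def Cols (A Ω : Type) [Group A] [MulAction A Ω] (m k t : ℕ) : Prop :=
  ∃ f : Fin k → Ω → Fin m, (∀ i j, i ≠ j → ∀ a : A, ∃ x, f j (a • x) ≠ f i x) ∧
    ∀ i, Triv (colStab A (f i)) Ω t

theorem Vecs.mono {A V : Type} [Group A] [AddCommGroup V] [DistribMulAction A V] {k L L' : ℕ}
    (h : Vecs A V k L) (hle : L ≤ L') : Vecs A V k L' := by
  obtain ⟨v, h1, h2⟩ := h
  exact ⟨v, h1, fun i => (h2 i).mono hle⟩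

namespace Imp

variable {A : Type} [Group A] {V : Type} [AddCommGroup V] [DistribMulAction A V] (I : Imp A V)

/-- The element of the block stabiliser induced on one part. -/
def gam (a : A) (e : I.Ω) : MulAction.stabilizer A I.ω :=
  ⟨(I.t (a • e))⁻¹ * a * I.t e, by
    rw [MulAction.mem_stabilizer_iff, mul_smul, mul_smul, I.ht, inv_smul_eq_iff, I.ht]⟩

theorem gam_smul (a : A) (v : V) (e : I.Ω) : I.Φ (a • v) (a • e) = I.gam a e • I.Φ v e :=
  I.equiv a v e _ rfl

theorem card_eq [Finite V] : Nat.card V = Nat.card I.U ^ Nat.card I.Ω := by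
  haveI := Fintype.ofFinite I.Ω
  rw [Nat.card_congr I.Φ.toEquiv, Nat.card_pi, Finset.prod_const, Finset.card_univ, Nat.card_eq_fintype_card (α := I.Ω)]

theorem two_le : 2 ≤ Nat.card I.Ω := by
  haveI := I.ntΩ
  exact Finite.one_lt_card

theorem card_lt [Finite V] : Nat.card I.U < Nat.card V := by
  rw [I.card_eq]
  haveI := I.nt
  calc Nat.card I.U = Nat.card I.U ^ 1 := (pow_one _).symm
    _ < _ := Nat.pow_lt_pow_right Finite.one_lt_card I.two_le

/-- Gluing the derived lengths. -/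
theorem triv_glue (H : Subgroup A) (t L : ℕ) (S : I.Ω → Subgroup (MulAction.stabilizer A I.ω))
    (hfix : Triv H I.Ω t) (hS : ∀ a ∈ H, (∀ e : I.Ω, a • e = e) → ∀ e, I.gam a e ∈ S e)
    (hT : ∀ e, Triv (S e) I.U L) : Triv H V (t + L) := by
  intro g hg x
  let K : Subgroup H := (MulAction.toPermHom A I.Ω).ker.subgroupOf H
  have hK : derivedSeries H t ≤ K := fun k hk =>
    Subgroup.mem_subgroupOf.2 (MonoidHom.mem_ker.2 (Equiv.ext fun e => hfix k hk e))
  obtain ⟨hgK, hgK'⟩ := derived_add' hK hg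
  have hKfix : ∀ k : K, ∀ e : I.Ω, ((k : H) : A) • e = e := fun k e =>
    Equiv.congr_fun (MonoidHom.mem_ker.1 (Subgroup.mem_subgroupOf.1 k.2)) e
  refine I.Φ.injective (funext fun e => ?_)
  let ψ : K →* S e :=
    { toFun := fun k => ⟨I.gam ((k : H) : A) e, hS _ (k : H).2 (hKfix k) e⟩
      map_one' := Subtype.ext (Subtype.ext (by
        show (I.t ((1 : A) • e))⁻¹ * 1 * I.t e = 1
        rw [one_smul, mul_one, inv_mul_cancel]))
      map_mul' := fun k k' => Subtype.ext (Subtype.ext (by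
        show (I.t (((k : H) * (k' : H) : A) • e))⁻¹ * ((k : H) * (k' : H) : A) * I.t e =
          (I.t (((k : H) : A) • e))⁻¹ * (k : H) * I.t e * ((I.t (((k' : H) : A) • e))⁻¹ * (k' : H) * I.t e)
        rw [mul_smul, hKfix k' e, hKfix k e]
        group)) }
  have h1 := hT e (ψ ⟨g, hgK⟩) (map_derivedSeries_le_derivedSeries ψ L ⟨_, hgK', rfl⟩)
  have h2 : I.Φ ((g : A) • x) ((g : A) • e) = I.gam (g : A) e • I.Φ x e := I.gam_smul _ _ _
  rw [show (g : A) • e = e from hKfix ⟨g, hgK⟩ e] at h2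
  exact h2.trans (h1 (I.Φ x e))

/-- The whole group. -/
theorem triv_top (t L : ℕ) (hfix : Triv A I.Ω t) (hT : Triv (MulAction.stabilizer A I.ω) I.U L) :
    Triv A V (t + L) := by
  have h := I.triv_glue ⊤ t L (fun _ => ⊤) (hfix.sub ⊤) (fun _ _ _ _ => Subgroup.mem_top _) fun _ => hT.sub ⊤
  exact h.comap Subgroup.topEquiv.symm.toMonoidHom fun _ _ => rfl

/-- The vector of a colouring. -/
def vec {ι : Type} (f : I.Ω → ι) (w : ι → I.U) : V := I.Φ.symm fun e => w (f e)

theorem vec_apply {ι : Type} (f : I.Ω → ι) (w : ι → I.U) (e : I.Ω) : I.Φ (I.vec f w) e = w (f e) :=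
  congrFun (I.Φ.apply_symm_apply _) e

theorem vec_equiv {ι : Type} {f g : I.Ω → ι} {w : ι → I.U}
    (hw : ∀ i j, i ≠ j → ∀ a : MulAction.stabilizer A I.ω, a • w i ≠ w j) {a : A}
    (h : a • I.vec f w = I.vec g w) (e : I.Ω) : g (a • e) = f e ∧ I.gam a e • w (f e) = w (f e) := by
  have h1 := I.gam_smul a (I.vec f w) e
  rw [h, vec_apply, vec_apply] at h1
  have h2 : f e = g (a • e) := by
    by_contra hne
    exact hw _ _ hne _ h1.symm
  exact ⟨h2.symm, by rw [← h1, h2]⟩

/-- Inequivalent vectors from inequivalent colourings. -/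
theorem vecs_of_cols {m k t L : ℕ} (hc : Cols A I.Ω m k t) (hv : Vecs (MulAction.stabilizer A I.ω) I.U m L) :
    Vecs A V k (t + L) := by
  obtain ⟨f, hf1, hf2⟩ := hc
  obtain ⟨w, hw1, hw2⟩ := hv
  refine ⟨fun i => I.vec (f i) w, fun i j hij a h => ?_, fun i => ?_⟩
  · obtain ⟨x, hx⟩ := hf1 i j hij a
    exact hx (I.vec_equiv hw1 h x).1
  · refine I.triv_glue _ t L (fun e => MulAction.stabilizer _ (w (f i e))) ?_ (fun a ha _ e => ?_) fun e => hw2 _
    · exact (hf2 i).comap (Subgroup.inclusion fun a (ha : a • I.vec (f i) w = I.vec (f i) w) x =>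
        (I.vec_equiv hw1 ha x).1) fun _ _ => rfl
    · exact (I.vec_equiv hw1 ha e).2

end Imp

end Cfsg.Agent.VecCentralizer
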