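import Cfsg.Agent.Lib.VecCentralizer.Prim
import Cfsg.Agent.Lib.VecCentralizer.Glue
import Cfsg.Agent.Lib.VecCentralizer.Affine

/-! The derived length of a small irreducible solvable linear group. -/

set_option autoImplicit false
set_option linter.style.haveILetI false

namespace Cfsg.Agent.VecCentralizer

open Subgroup
open OddBaseTwo (Inv Irr Prim Img)

/-- The bound below order `N`. -/
def DLBelow (N : ℕ) : Prop :=
  ∀ (A V : Type) [Group A] [Finite A] [AddCommGroup V] [Finite V] [DistribMulAction A V] (r k : ℕ),
    Group.IsSolvable A → r.Prime → Covered r k → Nat.card V = r ^ k → Irr A V → Nat.card V < N → Triv A V (T r k)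

theorem triv_one_dim {A V : Type} [Group A] [AddCommGroup V] [Finite V] [DistribMulAction A V] {r : ℕ}
    (hr : r.Prime) (hV : Nat.card V = r) : Triv A V (T r 1) := by
  classical
  haveI : Fact r.Prime := ⟨hr⟩
  haveI : IsAddCyclic V := isAddCyclic_of_prime_card hV
  obtain ⟨x, hx⟩ := IsAddCyclic.exists_generator (α := V)
  by_cases h2 : r = 2
  · intro g _ y
    subst h2
    have hfix : ∀ y : V, y ≠ 0 → g • y = y := by
      intro y hy
      by_contra hne
      haveI := Fintype.ofFinite V
      have hc : ({0, y, g • y} : Finset V).card = 3 := Finset.card_eq_three.2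
        ⟨0, y, g • y, Ne.symm hy, fun e => hy ((smul_eq_zero_iff_eq g).1 e.symm), Ne.symm hne, rfl⟩
      have := Finset.card_le_univ ({0, y, g • y} : Finset V)
      rw [hc, ← Nat.card_eq_fintype_card, hV] at this
      omega
    by_cases hy : y = 0
    · rw [hy, smul_zero]
    · exact hfix y hy
  · have hT : T r 1 = 1 := by unfold T; split_ifs <;> first | rfl | omega
    rw [hT]
    intro g hg y
    have hle : derivedSeries A 1 ≤ (MulAction.toPermHom A V).ker := by
      refine derived_one_le fun a b => MonoidHom.mem_ker.2 (Equiv.ext fun z => ?_)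
      show (a * b * a⁻¹ * b⁻¹) • z = z
      have hlin : ∀ c : A, ∃ n : ℤ, ∀ w : V, c • w = n • w := by
        intro c
        obtain ⟨n, hn⟩ := AddSubgroup.mem_zmultiples_iff.1 (hx (c • x))
        refine ⟨n, fun w => ?_⟩
        obtain ⟨m, rfl⟩ := AddSubgroup.mem_zmultiples_iff.1 (hx w)
        rw [show c • (m • x) = m • (c • x) from map_zsmul (DistribSMul.toAddMonoidHom V c) m x, ← hn, smul_comm]
      obtain ⟨m, hm⟩ := hlin a
      obtain ⟨n, hn⟩ := hlin b
      have hcomm : ∀ w : V, a • b • w = b • a • w := fun w => by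
        rw [hm, hn, hn, hm]; exact smul_comm _ _ _
      rw [mul_smul, mul_smul, mul_smul, hcomm, smul_inv_smul, smul_inv_smul]
    exact Equiv.congr_fun (MonoidHom.mem_ker.1 (hle hg)) y

theorem dl_below : ∀ N : ℕ, DLBelow N := by
  intro N
  induction N with
  | zero => intro A V _ _ _ _ _ r k _ _ _ _ _ h; exact absurd h (Nat.not_lt_zero _)
  | succ N ih =>
    intro A₀ V _ _ _ _ _ r k hsol hr hk hcard hirr₀ hlt
    haveI := Fact.mk hr
    have hV1 : 1 < Nat.card V := by
      rw [hcard]; exact Nat.one_lt_pow (by have := hk.1; omega) hr.one_lt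
    haveI : Nontrivial V := Finite.one_lt_card_iff_nontrivial.1 hV1
    by_cases hk1 : k = 1
    · subst hk1; exact triv_one_dim hr (by rw [hcard, pow_one])
    have hk2 : 2 ≤ k := by have := hk.1; omega
    suffices key : Triv (Img A₀ V) V (T r k) from
      key.comap (MulAction.toPermHom A₀ V).rangeRestrict fun _ _ => rfl
    haveI := hsol
    have hirr : Irr (Img A₀ V) V := Img.irr_iff.2 hirr₀
    set A := Img A₀ V
    obtain ⟨p, hp, hexp⟩ := exists_prime_exponent hirr
    haveI := Fact.mk hp
    letI : Module (ZMod p) V := AddCommGroup.zmodModule hexp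
    obtain ⟨k', hk'0, hk'⟩ := exists_card_eq_pow (V := V) (p := p)
    obtain rfl : p = r := (Nat.prime_dvd_prime_iff_eq hp hr).1 (hp.dvd_of_dvd_pow (hcard ▸ hk' ▸ dvd_pow_self p hk'0.ne'))
    by_cases hprim : Prim A V p
    · obtain ⟨D⟩ := exists_pdata p hirr hprim
      have hkd : k = D.d * D.m := D.k_eq hp hcard
      have h2T : 2 ≤ T p k := two_le_T hk2 hk.2
      rcases Nat.lt_or_ge D.e 2 with he | he
      · -- semilinear
        have he1 : D.e = 1 := by have := D.he; omega
        have hC := D.hone he1
        intro g hg x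
        have hg2 := derivedSeries_antitone A h2T hg
        have hle : derivedSeries A 1 ≤ D.U := hC ▸ derived_one_le D.hAb
        have hbot : derivedSeries A 2 = ⊥ := by
          rw [derivedSeries_succ, eq_bot_iff, Subgroup.commutator_le]
          intro a ha b hb
          rw [mem_bot, commutatorElement_eq_one_iff_mul_comm]
          exact D.hUcomm a (hle ha) b (hle hb)
        rw [hbot, mem_bot] at hg2
        rw [hg2, one_smul]
      have hq : ∀ q : ℕ, q.Prime → q ∣ D.e → q ∣ p ^ D.d - 1 := fun q hq hqe => (D.hdiv q hq hqe).trans D.hUdvd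
      have h3T : 3 ≤ T p k := by
        obtain ⟨s, hs, hse⟩ := Nat.exists_prime_and_dvd (show D.e ≠ 1 by omega)
        exact (prim_closure hk.2 D.hd hkd he D.hem hq hs le_rfl (by rw [pow_one]; exact hse.mul_left _)).2.2
      have hM : derivedSeries A (T p k - 2) ≤ D.M := by
        refine D.derived_le (by omega) fun W _ _ _ s i hs hi hdvd hW hirrW => ?_
        obtain ⟨hcov, hT, -⟩ := prim_closure hk.2 D.hd hkd he D.hem hq hs hi hdvd
        have hlt' : Nat.card W < Nat.card V := by
          rw [hW, D.hV]
          calc s ^ i ≤ D.e * D.e := Nat.le_of_dvd (Nat.mul_pos (by omega) (by omega)) hdvd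
            _ ≤ D.m * D.m := Nat.mul_le_mul D.hem D.hem
            _ < 3 ^ D.m := self_mul_self_lt_three_pow D.m
            _ ≤ _ := Nat.pow_le_pow_left (D.three_le_q hp he) _
        exact (ih A W s i inferInstance hs hcov hW hirrW (by omega)).mono (by omega)
      have := D.triv_of_le hM
      rwa [show T p k - 2 + 2 = T p k by omega] at this
    · obtain ⟨I⟩ := exists_imp p hirr hprim
      haveI := I.nt
      haveI := I.ntΩ
      haveI : Group.IsSolvable (MulAction.toPermHom A I.Ω).range :=
        Group.isSolvable_of_surjective (MulAction.toPermHom A I.Ω).rangeRestrict_surjective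
      haveI : FaithfulSMul (MulAction.toPermHom A I.Ω).range I.Ω := ⟨fun h => Subtype.ext (Equiv.ext h)⟩
      obtain ⟨F⟩ := exists_aff I.prim
      obtain ⟨i, hi, hcardΩ⟩ := F.exists_pow
      obtain ⟨j, hjk, hUcard⟩ := (Nat.dvd_prime_pow hp).1 (show Nat.card I.U ∣ p ^ k from
        hcard ▸ I.card_eq ▸ dvd_pow_self _ (by have := I.two_le; omega))
      have hj : 1 ≤ j := by
        rcases Nat.eq_zero_or_pos j with h | h
        · rw [h, pow_zero] at hUcard
          exact absurd hUcard (Finite.one_lt_card (α := I.U)).ne'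
        · exact h
      have hkb : k = j * Nat.card I.Ω := by
        have h := hcard.symm.trans (I.card_eq.trans (by rw [hUcard, ← pow_mul]))
        exact Nat.pow_right_injective hp.two_le h
      obtain ⟨hcj, hcs, hT⟩ := imp_closure hk.2 hj I.two_le hkb F.hs hcardΩ
      have hU : Triv (MulAction.stabilizer A I.ω) I.U (T p j) :=
        ih _ I.U p j inferInstance hp hcj hUcard I.irr (by have := I.card_lt; omega)
      have hW : Triv (MulAction.toPermHom A I.Ω).range F.W (T F.s i) := by
        refine ih _ F.W F.s i inferInstance F.hs hcs (by rw [F.card_eq, hcardΩ]) F.irr ?_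
        have h1 : 2 ≤ Nat.card I.U := Finite.one_lt_card
        have h2 : Nat.card I.Ω < Nat.card I.U ^ Nat.card I.Ω :=
          lt_of_lt_of_le (Nat.lt_two_pow_self) (Nat.pow_le_pow_left h1 _)
        rw [← I.card_eq, ← F.card_eq] at h2
        omega
      have hP : Triv A I.Ω (T F.s i + 1) :=
        (F.triv_succ_top hW).comap (MulAction.toPermHom A I.Ω).rangeRestrict fun _ _ => rfl
      exact (I.triv_top _ _ hP hU).mono (by omega)

/-- The bound. -/
theorem dl_irr (A V : Type) [Group A] [Finite A] [AddCommGroup V] [Finite V] [DistribMulAction A V] {r k : ℕ}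
    (hsol : Group.IsSolvable A) (hr : r.Prime) (hk : Covered r k) (hcard : Nat.card V = r ^ k) (hirr : Irr A V) :
    Triv A V (T r k) :=
  dl_below (Nat.card V + 1) A V r k hsol hr hk hcard hirr (Nat.lt_succ_self _)

end Cfsg.Agent.VecCentralizer
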