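import Cfsg.Agent.Lib.VecCentralizer.Affine
import Cfsg.Agent.Lib.VecCentralizer.DL
import Mathlib.GroupTheory.GroupAction.Blocks

/-! Solvable groups of permutations of at most eight points. -/

set_option autoImplicit false
set_option linter.style.haveILetI false

namespace Cfsg.Agent.VecCentralizer

open scoped Pointwise

/-- The derived length on `n` points. -/
def smallDL (n : ℕ) : ℕ := if n ≤ 2 then 1 else if n ≤ 3 then 2 else if n ≤ 7 then 3 else 4

theorem smallDL_mono {a b : ℕ} (h : a ≤ b) : smallDL a ≤ smallDL b := by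
  unfold smallDL; split_ifs <;> omega

theorem smallDL_mul : ∀ k ∈ List.range 9, ∀ m ∈ List.range 9, 2 ≤ k → 2 ≤ m → k * m ≤ 8 →
    smallDL k + smallDL m ≤ smallDL (k * m) := by decide +kernel

theorem smallDL_prim : ∀ s ∈ [2, 3, 5, 7], ∀ i ∈ List.range 4, 1 ≤ i → s ^ i ≤ 8 →
    i ≤ dimMax s ∧ T s i + 1 ≤ smallDL (s ^ i) := by decide +kernel

/-- The bound. -/
theorem triv_small : ∀ n ≤ 8, ∀ (G X : Type) [Group G] [Finite G] [Group.IsSolvable G] [MulAction G X] [Finite X],
    Nat.card X ≤ n → Triv G X (smallDL n) := by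
  intro n
  induction n using Nat.strong_induction_on with
  | h n ih =>
  intro hn G X _ _ _ _ _ hX g hg x
  classical
  -- the orbit of the point
  let O := MulAction.orbit G x
  haveI : Finite O := Subtype.finite
  have hOle : Nat.card O ≤ n := (Finite.card_subtype_le _).trans hX
  suffices key : Triv G O (smallDL (Nat.card O)) by
    exact congrArg Subtype.val ((key.mono (smallDL_mono hOle)) g hg ⟨x, MulAction.mem_orbit_self x⟩)
  haveI : MulAction.IsPretransitive G O := inferInstance
  by_cases h1 : Nat.card O ≤ 1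
  · haveI : Subsingleton O := Finite.card_le_one_iff_subsingleton.1 h1
    exact fun _ _ y => Subsingleton.elim _ _
  haveI : Nontrivial O := Finite.one_lt_card_iff_nontrivial.1 (by omega)
  by_cases hb : ∃ B : Set O, MulAction.IsBlock G B ∧ ¬ MulAction.IsTrivialBlock B
  swap
  · -- primitive
    let P := (MulAction.toPermHom G O).range
    haveI : Group.IsSolvable P := Group.isSolvable_of_surjective (MulAction.toPermHom G O).rangeRestrict_surjective
    have hprim : MulAction.IsPreprimitive P O := by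
      haveI : MulAction.IsPretransitive P O := ⟨fun a b => by
        obtain ⟨c, hc⟩ := MulAction.exists_smul_eq G a b
        exact ⟨(MulAction.toPermHom G O).rangeRestrict c, hc⟩⟩
      refine ⟨fun {B} hB => ?_⟩
      by_contra hBt
      exact hb ⟨B, fun g₁ g₂ hne => hB (g₁ := (MulAction.toPermHom G O).rangeRestrict g₁)
        (g₂ := (MulAction.toPermHom G O).rangeRestrict g₂) hne, hBt⟩
    obtain ⟨F⟩ := exists_aff hprim
    obtain ⟨i, hi, hcard⟩ := F.exists_pow
    have h8 : F.s ^ i ≤ 8 := by omega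
    have hs8 : F.s ≤ 8 := (Nat.le_self_pow (by omega) _).trans h8
    have hi4 : i < 4 := by
      by_contra hc
      have : 2 ^ 4 ≤ F.s ^ i := (Nat.pow_le_pow_left F.hs.two_le 4).trans (Nat.pow_le_pow_right F.hs.pos (by omega))
      norm_num at this
      omega
    have hmem : F.s ∈ [2, 3, 5, 7] := by
      rcases (show F.s = 2 ∨ F.s = 3 ∨ F.s = 4 ∨ F.s = 5 ∨ F.s = 6 ∨ F.s = 7 ∨ F.s = 8 by
        have := F.hs.two_le; omega) with e | e | e | e | e | e | e <;>
        first | (rw [e]; decide) | (exfalso; have := F.hs; rw [e] at this; norm_num at this)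
    obtain ⟨hd, hT⟩ := smallDL_prim F.s hmem i (List.mem_range.2 hi4) hi h8
    haveI := Fact.mk F.hs
    haveI : Finite P := inferInstance
    have hW := dl_irr P F.W inferInstance F.hs ⟨hi, hd⟩ (by rw [F.card_eq, hcard]) F.irr
    rw [hcard]
    exact ((F.triv_succ_top hW).comap (MulAction.toPermHom G O).rangeRestrict fun _ _ => rfl).mono hT
  -- blocks
  obtain ⟨B, hB, hBt⟩ := hb
  simp only [MulAction.IsTrivialBlock, not_or, Set.not_subsingleton_iff] at hBt
  obtain ⟨hB2, hBu⟩ := hBt
  have hBne : B.Nonempty := hB2.nonempty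
  let Y := MulAction.orbit G B
  have hmul : B.ncard * Y.ncard = Nat.card O := hB.ncard_block_mul_ncard_orbit_eq hBne
  have hB2' : 2 ≤ B.ncard := (Set.one_lt_ncard_iff_nontrivial).2 hB2
  have hBlt : B.ncard < Nat.card O := by
    rw [← Set.ncard_univ]
    exact Set.ncard_lt_ncard (Set.ssubset_univ_iff.2 hBu)
  have hY : 2 ≤ Y.ncard := by
    by_contra hc
    rcases (by omega : Y.ncard = 0 ∨ Y.ncard = 1) with e | e <;> rw [e] at hmul <;> omega
  have hYlt : Y.ncard < Nat.card O := by
    have : 2 * Y.ncard ≤ Nat.card O := hmul ▸ Nat.mul_le_mul_right _ hB2'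
    omega
  haveI : Finite Y := Subtype.finite
  have hTY : Triv G Y (smallDL Y.ncard) := ih _ (by omega) (by omega) G Y (Nat.card_coe_set_eq _).le
  let St := MulAction.stabilizer G B
  letI actB : MulAction St B :=
    { smul := fun h y => ⟨(h : G) • (y : O), by
        have := Set.smul_mem_smul_set (a := (h : G)) y.2
        rwa [MulAction.mem_stabilizer_iff.1 h.2] at this⟩
      one_smul := fun y => Subtype.ext (one_smul G _)
      mul_smul := fun a b y => Subtype.ext (mul_smul (a : G) b _) }
  have hTB : Triv St B (smallDL B.ncard) := ih _ (by omega) (by omega) St B (Nat.card_coe_set_eq _).le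
  have hsum : smallDL Y.ncard + smallDL B.ncard ≤ smallDL (Nat.card O) := by
    rw [← hmul, Nat.mul_comm B.ncard]
    refine smallDL_mul _ (List.mem_range.2 (by omega)) _ (List.mem_range.2 (by omega)) hY hB2' ?_
    rw [Nat.mul_comm]; omega
  refine (Triv.mono (D := smallDL Y.ncard + smallDL B.ncard) ?_ hsum)
  intro a ha y
  let K : Subgroup G := (MulAction.toPermHom G Y).ker
  obtain ⟨haK, haK'⟩ := derived_add' (H := K)
    (fun k hk => MonoidHom.mem_ker.2 (Equiv.ext fun z => hTY k hk z)) ha
  obtain ⟨b, hb⟩ := hBne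
  obtain ⟨c, rfl⟩ := MulAction.exists_smul_eq G b y
  have hKst : ∀ k : K, c⁻¹ * (k : G) * c ∈ St := fun k => by
    have hfix : (k : G) • (c • B) = c • B :=
      congrArg Subtype.val (Equiv.congr_fun (MonoidHom.mem_ker.1 k.2) ⟨c • B, c, rfl⟩)
    rw [MulAction.mem_stabilizer_iff, mul_smul, mul_smul, hfix, inv_smul_smul]
  let ψ : K →* St :=
    { toFun := fun k => ⟨c⁻¹ * (k : G) * c, hKst k⟩
      map_one' := Subtype.ext (by simp)
      map_mul' := fun k k' => Subtype.ext (by
        show c⁻¹ * ((k : G) * k') * c = c⁻¹ * k * c * (c⁻¹ * k' * c)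
        group) }
  have h2 : (c⁻¹ * a * c) • b = b :=
    congrArg Subtype.val (hTB (ψ ⟨a, haK⟩) (map_derivedSeries_le_derivedSeries ψ _ ⟨_, haK', rfl⟩) ⟨b, hb⟩)
  rw [mul_smul, mul_smul, inv_smul_eq_iff] at h2
  exact h2

end Cfsg.Agent.VecCentralizer
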