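import Cfsg.Agent.Lib.VecCentralizer.Coord
import Cfsg.Agent.Lib.VecCentralizer.DL
import Cfsg.Agent.Lib.VecCentralizer.Small

/-! Five colourings by two colours. -/

set_option autoImplicit false
set_option linter.style.haveILetI false

namespace Cfsg.Agent.VecCentralizer

namespace Cert

variable {P Ω : Type} [Group P] [Finite P] [Group.IsSolvable P] [MulAction P Ω] [Finite Ω] [FaithfulSMul P Ω]

/-- Fixed frame without the last point. -/
def last6 : List (Fin 7 → Fin 6 → ZMod 2) :=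
  ((pts 2 6).filter fun v => decide (v 5 = 1)).map fun v j => if j = 6 then v else frame j

theorem last6_comm : (last6.all fun y => last6.all fun z => (List.finRange 7).all fun j => aff y (z j) = aff z (y j))
    = true := by decide +kernel

theorem last6_aff : ((pts 2 6).all fun v => decide (v 5 = 0 → aff (fun j => if j = 6 then v else frame j) v = v))
    = true := by decide +kernel

/-- The stabiliser of a set containing six independent points. -/
theorem triv_set (F : Aff P Ω) (Ψ : F.W ≃+ (Fin 6 → ZMod 2)) (X : List (Fin 6 → ZMod 2))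
    (hX : ∀ j : Fin 7, j ≠ 6 → frame j ∈ X) (hlen : X.toFinset.card ≤ 8) {ι : Type} (f : Ω → ι) (c : ι)
    (hf : ∀ x, f x = c ↔ co F Ψ x ∈ X) {t : ℕ}
    (ht : (smallDL X.toFinset.card + 1 ≤ t) ∨ (frame 6 ∈ X ∧ smallDL X.toFinset.card ≤ t)) :
    Triv (colStab P f) Ω t := by
  classical
  let S : Set Ω := {x | f x = c}
  have hS : Nat.card S = X.toFinset.card := by
    rw [← Nat.card_eq_finsetCard]
    exact Nat.card_congr ((F.pt.symm.trans Ψ.toEquiv).subtypeEquiv fun x => by
      rw [List.mem_toFinset]; exact hf x)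
  letI actS : MulAction (colStab P f) S :=
    { smul := fun g x => ⟨(g : P) • (x : Ω), (g.2 x).trans x.2⟩
      one_smul := fun x => Subtype.ext (one_smul P _)
      mul_smul := fun a b x => Subtype.ext (mul_smul (a : P) b _) }
  have hD : ∀ g ∈ derivedSeries (colStab P f) (smallDL X.toFinset.card), ∀ z ∈ X,
      (g : P) • pos F Ψ z = pos F Ψ z := by
    intro g hg z hz
    have := triv_small _ hlen (colStab P f) S hS.le g hg ⟨pos F Ψ z, (hf _).2 (by rw [co_pos]; exact hz)⟩
    exact congrArg Subtype.val this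
  have himg : ∀ g ∈ derivedSeries (colStab P f) (smallDL X.toFinset.card), ∀ j : Fin 7, frame j ∈ X →
      img F Ψ (g : P) j = frame j := fun g hg j hj => by rw [img, hD g hg _ hj, co_pos]
  rcases ht with ht | ⟨h6, ht⟩
  swap
  · refine Triv.mono (fun g hg x => ?_) ht
    obtain ⟨z, rfl⟩ : ∃ z, pos F Ψ z = x := ⟨_, pos_co F Ψ x⟩
    refine co_inj F Ψ ?_
    show co F Ψ ((g : P) • pos F Ψ z) = co F Ψ (pos F Ψ z)
    have h1 : img F Ψ (g : P) = img F Ψ 1 := funext fun j => by
      rw [himg g hg j (if h : j = 6 then h ▸ h6 else hX j h), img, one_smul, co_pos]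
    rw [co_smul, h1, ← co_smul, one_smul]
  refine Triv.mono (fun g hg x => ?_) ht
  let H : Subgroup P := (derivedSeries (colStab P f) (smallDL X.toFinset.card)).map (colStab P f).subtype
  have hH : Triv H Ω 1 := by
    refine triv_of_list F Ψ last6 last6_comm H ?_
    rintro _ ⟨g, hg, rfl⟩
    let v := img F Ψ (g : P) 6
    have hy : img F Ψ (g : P) = fun j => if j = 6 then v else frame j := funext fun j => by
      by_cases h : j = 6
      · subst h; rw [if_pos rfl]
      · rw [if_neg h]; exact himg g hg j (hX j h)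
    refine List.mem_map.2 ⟨v, List.mem_filter.2 ⟨mem_pts _, decide_eq_true ?_⟩, hy.symm⟩
    by_contra hv
    have hv0 : v 5 = 0 := by
      revert hv
      generalize v 5 = a
      revert a
      decide
    have ha := of_decide_eq_true (List.all_eq_true.1 last6_aff v (mem_pts _)) hv0
    have h1 : co F Ψ ((g : P) • pos F Ψ v) = v := by rw [co_smul, hy]; exact ha
    have h2 : pos F Ψ v = pos F Ψ (frame 6) :=
      smul_left_cancel (g : P) (co_inj F Ψ (h1.trans (show v = co F Ψ ((g : P) • pos F Ψ (frame 6)) from rfl)))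
    have h3 := congrArg (co F Ψ) h2
    rw [co_pos, co_pos] at h3
    rw [h3] at hv0
    revert hv0
    decide
  obtain ⟨hg', hg''⟩ := derived_add' (H := H.subgroupOf (colStab P f))
    (fun k hk => Subgroup.mem_subgroupOf.2 ⟨k, hk, rfl⟩) hg
  let ψ : H.subgroupOf (colStab P f) →* H :=
    { toFun := fun k => ⟨((k : colStab P f) : P), Subgroup.mem_subgroupOf.1 k.2⟩
      map_one' := rfl
      map_mul' := fun _ _ => rfl }
  exact hH (ψ ⟨g, hg'⟩) (map_derivedSeries_le_derivedSeries ψ 1 ⟨_, hg'', rfl⟩) x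

def S6 : List (Fin 6 → ZMod 2) := (List.finRange 6).map fun j => frame j.castSucc
def S7 : List (Fin 6 → ZMod 2) := (List.finRange 7).map frame
def S8 : List (Fin 6 → ZMod 2) := ![1, 1, 0, 0, 0, 0] :: S7

/-- The five colourings in degree 64. -/
theorem cols_sixty_four (F : Aff P Ω) (hs : F.s = 2) (hn : Nat.card Ω = 2 ^ 6) : Cols P Ω 2 5 4 := by
  classical
  obtain ⟨Ψ⟩ := F.exists_coord hs hn
  let Xs : Fin 5 → List (Fin 6 → ZMod 2) := ![S6, S6, S7, S7, S8]
  let c0 : Fin 5 → Fin 2 := ![0, 1, 0, 1, 0]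
  let u : Fin 5 → (Fin 6 → ZMod 2) → Fin 2 := fun j z => if z ∈ Xs j then c0 j else 1 - c0 j
  have hd : ∀ a b : Fin 5, a ≠ b → (Finset.univ.filter fun z => u a z = 0).card ≠
      (Finset.univ.filter fun z => u b z = 0).card := by decide +kernel
  refine cols_of_count (fun j x => u j (co F Ψ x)) (fun a b hab => ⟨0, ?_⟩) fun j => ?_
  · rw [ncard_co F Ψ (u a), ncard_co F Ψ (u b)]
    exact hd a b hab
  · have hf : ∀ x, u j (co F Ψ x) = c0 j ↔ co F Ψ x ∈ Xs j := fun x => by
      by_cases h : co F Ψ x ∈ Xs j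
      · simp [u, h]
      · simp only [u, if_neg h, iff_false_right h]
        generalize c0 j = a
        revert a
        decide
    have hX : ∀ j : Fin 5, (∀ k : Fin 7, k ≠ 6 → frame k ∈ Xs j) ∧ (Xs j).toFinset.card ≤ 8 ∧
        (smallDL (Xs j).toFinset.card + 1 ≤ 4 ∨ frame 6 ∈ Xs j ∧ smallDL (Xs j).toFinset.card ≤ 4) := by
      decide +kernel
    exact triv_set F Ψ _ (hX j).1 (hX j).2.1 _ (c0 j) hf (hX j).2.2

end Cert

variable {P Ω : Type} [Group P] [Finite P] [MulAction P Ω] [Finite Ω] [FaithfulSMul P Ω]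

/-- Five colourings. -/
theorem cols_two_colours [Group.IsSolvable P] [Nontrivial Ω] (hprim : MulAction.IsPreprimitive P Ω)
    (h4 : 4 ≤ Nat.card Ω) : Cols P Ω 2 5 4 := by
  obtain ⟨F⟩ := exists_aff hprim
  obtain ⟨i, hi, hn⟩ := F.exists_pow
  haveI := Fact.mk F.hs
  have hWle : i ≤ dimMax F.s → Triv P F.W (T F.s i) := fun h =>
    dl_irr P F.W inferInstance F.hs ⟨hi, h⟩ (by rw [F.card_eq, hn]) F.irr
  have hsmall : i ≤ dimMax F.s → T F.s i + 1 ≤ 4 → Cols P Ω 2 5 4 := fun hd hT =>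
    cols_sizes (fun j => (j : ℕ)) Fin.val_injective (fun j => by have := j.isLt; omega)
      fun j f _ => triv_colStab ((F.triv_succ_top (hWle hd)).mono hT) f
  have hcop : i ≤ dimMax F.s → T F.s i ≤ 4 → ∀ z : Fin 5 → ℕ, Function.Injective z →
      (∀ j, z j ≤ Nat.card Ω ∧ ¬ F.s ∣ z j) → Cols P Ω 2 5 4 := fun hd hT z hz hz' =>
    cols_sizes z hz (fun j => (hz' j).1) fun j f hf =>
      triv_of_coprime F f ((hWle hd).mono hT) 0 (by rw [hf]; exact (hz' j).2)
  have h5 : ∀ {t}, Cols P Ω 2 5 t → t ≤ 4 → Cols P Ω 2 5 4 := fun h ht =>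
    let ⟨f, h1, h2⟩ := h; ⟨f, h1, fun j => (h2 j).mono ht⟩
  have hodd : F.s ≠ 2 → 81 ≤ Nat.card Ω → Cols P Ω 2 5 4 := fun hs h81 =>
    h5 (cols_of_large F 2 le_rfl 3 (by omega) (Or.inr ⟨rfl, by have := F.hs.two_le; omega⟩) (large_odd h81))
      (Nat.zero_le _)
  have hT1 : T F.s 1 + 1 ≤ 4 := by unfold T; split_ifs <;> simp
  rcases (by omega : i = 1 ∨ 2 ≤ i) with rfl | hi2
  · exact hsmall (by unfold dimMax; split_ifs <;> omega) hT1
  rcases (show F.s = 2 ∨ F.s = 3 ∨ F.s = 5 ∨ F.s = 7 ∨ 11 ≤ F.s by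
    by_contra hc
    rcases (show F.s = 4 ∨ F.s = 6 ∨ F.s = 8 ∨ F.s = 9 ∨ F.s = 10 by have := F.hs.two_le; omega) with
      e | e | e | e | e <;> exact absurd (e ▸ F.hs) (by norm_num)) with hs | hs | hs | hs | hs
  · rw [hs] at hn
    rcases (by omega : i ≤ 5 ∨ i = 6 ∨ 7 ≤ i) with hle | rfl | h7
    · refine hsmall (by rw [hs]; unfold dimMax; norm_num; omega) ?_
      rw [hs]; interval_cases i <;> decide
    · exact Cert.cols_sixty_four F hs hn
    · have h128 : 128 ≤ Nat.card Ω := hn ▸ (Nat.pow_le_pow_right (by norm_num) h7 : 2 ^ 7 ≤ 2 ^ i)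
      exact h5 (cols_of_large F 2 le_rfl 4 (by omega) (Or.inl ⟨rfl, hs⟩) (large_two h128)) (Nat.zero_le _)
  · rcases (by omega : i = 2 ∨ i = 3 ∨ 4 ≤ i) with rfl | rfl | h4
    · exact hcop (by rw [hs]; decide) (by rw [hs]; decide) ![1, 2, 4, 5, 7] (by decide)
        (by rw [hn, hs]; decide)
    · exact hcop (by rw [hs]; decide) (by rw [hs]; decide) ![1, 2, 4, 5, 7] (by decide)
        (by rw [hn, hs]; decide)
    · exact hodd (by omega) (by rw [hn, hs]; exact (Nat.pow_le_pow_right (by norm_num) h4 : 3 ^ 4 ≤ 3 ^ i))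
  · rcases (by omega : i = 2 ∨ 3 ≤ i) with rfl | h3
    · exact hcop (by rw [hs]; decide) (by rw [hs]; decide) ![1, 2, 3, 4, 6] (by decide)
        (by rw [hn, hs]; decide)
    · exact hodd (by omega) (by
        rw [hn, hs]; exact le_trans (by norm_num) (Nat.pow_le_pow_right (by norm_num) h3 : 5 ^ 3 ≤ 5 ^ i))
  · rcases (by omega : i = 2 ∨ 3 ≤ i) with rfl | h3
    · exact hcop (by rw [hs]; decide) (by rw [hs]; decide) ![1, 2, 3, 4, 5] (by decide)
        (by rw [hn, hs]; decide)
    · exact hodd (by omega) (by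
        rw [hn, hs]; exact le_trans (by norm_num) (Nat.pow_le_pow_right (by norm_num) h3 : 7 ^ 3 ≤ 7 ^ i))
  · exact hodd (by omega) (by
      rw [hn]
      exact le_trans (by norm_num) ((Nat.pow_le_pow_left hs 2).trans (Nat.pow_le_pow_right (by omega) hi2)))

end Cfsg.Agent.VecCentralizer
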