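import Cfsg.Agent.Lib.VecCentralizer.Coord
import Cfsg.Agent.Lib.VecCentralizer.DL

/-! Five colourings by three colours with abelian stabiliser. -/

set_option autoImplicit false
set_option linter.style.haveILetI false

namespace Cfsg.Agent.VecCentralizer

namespace Cert

theorem a4 : check (s := 2) (i := 2) [![0,0]] [![1,0]] = true := by decide +kernel
theorem b4 : check (s := 2) (i := 2) [![0,0],![1,0]] [![0,1],![1,1]] = true := by decide +kernel
theorem a8 : check (s := 2) (i := 3) [![0,0,0],![1,0,0]] [![0,1,0],![0,0,1]] = true := by decide +kernel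
theorem b8 : check (s := 2) (i := 3) [![0,0,0],![0,1,1]] [![1,0,0],![0,1,0],![0,0,1]] = true := by decide +kernel
theorem c16 : check (s := 2) (i := 4) [![1,0,0,0],![0,0,1,0]] [![0,0,0,0],![0,1,0,0],![0,0,0,1],![0,0,1,1],![0,1,0,1],![1,0,1,0]] = true := by decide +kernel
theorem c32 : check (s := 2) (i := 5) [![0,0,1,0,0],![0,0,0,1,1],![0,0,1,0,1]] [![0,0,0,0,0],![1,0,0,0,0],![0,1,0,0,0],![0,0,0,1,0],![0,0,0,0,1]] = true := by decide +kernel
theorem c27 : check (s := 3) (i := 3) [![0,0,0],![1,0,0]] [![0,1,0],![0,0,1],![0,0,2],![0,1,1]] = true := by decide +kernel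
theorem c9 : check (s := 3) (i := 2) [![0,0]] [![1,0],![0,1]] = true := by decide +kernel
theorem c25 : check (s := 5) (i := 2) [![0,0]] [![1,0],![0,1]] = true := by decide +kernel
theorem c49 : check (s := 7) (i := 2) [![0,0]] [![1,0],![0,1]] = true := by decide +kernel

variable {P Ω : Type} [Group P] [MulAction P Ω] [Finite Ω] [FaithfulSMul P Ω] {s i : ℕ}

/-- One certified colouring with distinct sizes. -/
theorem cols_one [NeZero i] [NeZero s] (F : Aff P Ω) (hs : F.s = s) (hn : Nat.card Ω = s ^ i)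
    (A B : List (Fin i → ZMod s)) (h : check A B = true)
    (hd : Function.Injective fun c : Fin 3 => (Finset.univ.filter fun z => colour A B z = c).card) :
    Cols P Ω 3 5 1 := by
  obtain ⟨Ψ⟩ := F.exists_coord hs hn
  haveI : Fact (1 < s) := ⟨hs ▸ F.hs.one_lt⟩
  refine cols_perm (fun x => colour A B (co F Ψ x)) ?_ (triv_of_check F Ψ A B h id Function.injective_id)
  rw [funext fun c => ncard_co F Ψ (colour A B) c]
  exact hd

/-- Three and two renamings of two certified colourings. -/
theorem cols_two [NeZero i] [NeZero s] (F : Aff P Ω) (hs : F.s = s) (hn : Nat.card Ω = s ^ i)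
    (A B A' B' : List (Fin i → ZMod s)) (h : check A B = true) (h' : check A' B' = true)
    (π : Fin 5 → Equiv.Perm (Fin 3))
    (hd : ∀ a b : Fin 5, a ≠ b → ∃ c : Fin 3,
      (Finset.univ.filter fun z => π a (if a.val < 3 then colour A B z else colour A' B' z) = c).card ≠
      (Finset.univ.filter fun z => π b (if b.val < 3 then colour A B z else colour A' B' z) = c).card) :
    Cols P Ω 3 5 1 := by
  obtain ⟨Ψ⟩ := F.exists_coord hs hn
  haveI : Fact (1 < s) := ⟨hs ▸ F.hs.one_lt⟩
  refine cols_of_count (fun a x => π a (if a.val < 3 then colour A B (co F Ψ x) else colour A' B' (co F Ψ x)))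
    (fun a b hab => ?_) fun a => ?_
  · obtain ⟨c, hc⟩ := hd a b hab
    refine ⟨c, ?_⟩
    rw [ncard_co F Ψ (fun z => π a (if a.val < 3 then colour A B z else colour A' B' z)) c,
      ncard_co F Ψ (fun z => π b (if b.val < 3 then colour A B z else colour A' B' z)) c]
    exact hc
  · refine triv_rename (π a).injective ?_
    by_cases ha : a.val < 3
    · rw [show (fun x => if a.val < 3 then colour A B (co F Ψ x) else colour A' B' (co F Ψ x)) =
        fun x => colour A B (co F Ψ x) from funext fun x => if_pos ha]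
      exact triv_of_check F Ψ A B h id Function.injective_id
    · rw [show (fun x => if a.val < 3 then colour A B (co F Ψ x) else colour A' B' (co F Ψ x)) =
        fun x => colour A' B' (co F Ψ x) from funext fun x => if_neg ha]
      exact triv_of_check F Ψ A' B' h' id Function.injective_id

end Cert

variable {P Ω : Type} [Group P] [Finite P] [MulAction P Ω] [Finite Ω] [FaithfulSMul P Ω]

/-- The case of prime degree. -/
theorem cols_three_prime (F : Aff P Ω) [Group.IsSolvable P] (hn : Nat.card Ω = F.s ^ 1) : Cols P Ω 3 5 1 := by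
  classical
  have hcov : Covered F.s 1 := ⟨le_rfl, by unfold dimMax; split_ifs <;> omega⟩
  have hW : Triv P F.W (T F.s 1) := dl_irr P F.W inferInstance F.hs hcov (by rw [F.card_eq, hn]) F.irr
  rw [pow_one] at hn
  by_cases h2 : F.s = 2
  · have hT : Triv P Ω 1 := (F.triv_succ_top hW).mono (by rw [h2]; decide)
    haveI := Fintype.ofFinite Ω
    obtain ⟨e⟩ : Nonempty (Ω ≃ Fin 2) :=
      ⟨Fintype.equivFinOfCardEq (by rw [← Nat.card_eq_fintype_card, hn, h2])⟩
    let v : Fin 5 → Fin 2 → Fin 3 := ![![0, 0], ![1, 1], ![2, 2], ![0, 1], ![0, 2]]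
    refine cols_of_count (fun j x => v j (e x)) (fun a b hab => ?_) fun j => triv_colStab hT _
    have hd : ∀ a b : Fin 5, a ≠ b → ∃ c : Fin 3, (Finset.univ.filter fun z => v a z = c).card ≠
        (Finset.univ.filter fun z => v b z = c).card := by decide +kernel
    obtain ⟨c, hc⟩ := hd a b hab
    refine ⟨c, ?_⟩
    have hcount : ∀ j, {x | v j (e x) = c}.ncard = (Finset.univ.filter fun z => v j z = c).card := fun j => by
      rw [← Nat.card_coe_set_eq, ← Nat.card_eq_finsetCard]
      exact Nat.card_congr (e.subtypeEquiv fun x => by simp)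
    rw [hcount, hcount]
    exact hc
  · have h3 : 3 ≤ Nat.card Ω := by have := F.hs.two_le; omega
    haveI : Nonempty Ω := (Nat.card_pos_iff.1 (by omega)).1
    let x₀ : Ω := Classical.arbitrary Ω
    let f : Ω → Fin 3 := fun x => if x = x₀ then 0 else 1
    have e0 : {x | f x = 0}.ncard = 1 := by
      rw [show {x | f x = 0} = {x₀} by ext x; by_cases h : x = x₀ <;> simp [f, h], Set.ncard_singleton]
    have e1 : {x | f x = 1}.ncard = Nat.card Ω - 1 := by
      rw [show {x | f x = 1} = {x₀}ᶜ by ext x; by_cases h : x = x₀ <;> simp [f, h], Set.ncard_compl,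
        Set.ncard_singleton]
    have e2 : {x | f x = 2}.ncard = 0 := by
      rw [show {x | f x = 2} = ∅ by ext x; by_cases h : x = x₀ <;> simp [f, h], Set.ncard_empty]
    refine cols_perm f (fun a b h => ?_) ((triv_of_coprime F f hW 0 ?_).mono ?_)
    · simp only at h
      fin_cases a <;> fin_cases b <;> simp only [Fin.mk_one, Fin.zero_eta, Fin.reduceFinMk, e0, e1, e2] at h ⊢ <;> omega
    · rw [e0]; exact fun h => F.hs.one_lt.ne' (Nat.dvd_one.1 h)
    · unfold T; split_ifs <;> simp

/-- Five colourings. -/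
theorem cols_three [Group.IsSolvable P] [Nontrivial Ω] (hprim : MulAction.IsPreprimitive P Ω) : Cols P Ω 3 5 1 := by
  obtain ⟨F⟩ := exists_aff hprim
  obtain ⟨i, hi, hn⟩ := F.exists_pow
  rcases (by omega : i = 1 ∨ 2 ≤ i) with rfl | hi2
  · exact cols_three_prime F hn
  have h23 : ∀ n, 2 ^ n ≤ 3 ^ n := fun n => Nat.pow_le_pow_left (by norm_num) n
  have h5 : ∀ {m k t t'}, Cols P Ω m k t → t ≤ t' → Cols P Ω m k t' := fun h ht =>
    let ⟨f, h1, h2⟩ := h; ⟨f, h1, fun j => (h2 j).mono ht⟩
  have hodd : F.s ≠ 2 → 81 ≤ Nat.card Ω → Cols P Ω 3 5 1 := fun hs h81 =>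
    h5 (cols_of_large F 3 (by norm_num) 3 (by omega) (Or.inr ⟨rfl, by have := F.hs.two_le; omega⟩)
      ((large_odd h81).trans (h23 _))) (Nat.zero_le 1)
  rcases (show F.s = 2 ∨ F.s = 3 ∨ F.s = 5 ∨ F.s = 7 ∨ 11 ≤ F.s by
    by_contra hc
    rcases (show F.s = 4 ∨ F.s = 6 ∨ F.s = 8 ∨ F.s = 9 ∨ F.s = 10 by have := F.hs.two_le; omega) with
      e | e | e | e | e <;> exact absurd (e ▸ F.hs) (by norm_num)) with hs | hs | hs | hs | hs
  · rw [hs] at hn
    rcases (by omega : i = 2 ∨ i = 3 ∨ i = 4 ∨ i = 5 ∨ i = 6 ∨ 7 ≤ i) with rfl | rfl | rfl | rfl | rfl | h7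
    · exact Cert.cols_two F hs hn _ _ _ _ Cert.a4 Cert.b4
        ![1, Equiv.swap 0 2, Equiv.swap 1 2, 1, Equiv.swap 0 2] (by decide +kernel)
    · exact Cert.cols_two F hs hn _ _ _ _ Cert.a8 Cert.b8
        ![1, Equiv.swap 0 2, Equiv.swap 1 2, 1, Equiv.swap 0 2] (by decide +kernel)
    · exact Cert.cols_one F hs hn _ _ Cert.c16 (by decide +kernel)
    · exact Cert.cols_one F hs hn _ _ Cert.c32 (by decide +kernel)
    · exact h5 (cols_of_large F 3 (by norm_num) 4 (by omega) (Or.inl ⟨rfl, hs⟩) (by rw [hn]; norm_num)) (Nat.zero_le 1)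
    · have h128 : 128 ≤ Nat.card Ω := hn ▸ (Nat.pow_le_pow_right (by norm_num) h7 : 2 ^ 7 ≤ 2 ^ i)
      exact h5 (cols_of_large F 3 (by norm_num) 4 (by omega) (Or.inl ⟨rfl, hs⟩) ((large_two h128).trans (h23 _)))
        (Nat.zero_le 1)
  · rcases (by omega : i = 2 ∨ i = 3 ∨ 4 ≤ i) with rfl | rfl | h4
    · rw [hs] at hn; exact Cert.cols_one F hs hn _ _ Cert.c9 (by decide +kernel)
    · rw [hs] at hn; exact Cert.cols_one F hs hn _ _ Cert.c27 (by decide +kernel)
    · exact hodd (by omega) (by rw [hn, hs]; exact (Nat.pow_le_pow_right (by norm_num) h4 : 3 ^ 4 ≤ 3 ^ i))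
  · rcases (by omega : i = 2 ∨ 3 ≤ i) with rfl | h3
    · rw [hs] at hn; exact Cert.cols_one F hs hn _ _ Cert.c25 (by decide +kernel)
    · exact hodd (by omega) (by
        rw [hn, hs]; exact le_trans (by norm_num) (Nat.pow_le_pow_right (by norm_num) h3 : 5 ^ 3 ≤ 5 ^ i))
  · rcases (by omega : i = 2 ∨ 3 ≤ i) with rfl | h3
    · rw [hs] at hn; exact Cert.cols_one F hs hn _ _ Cert.c49 (by decide +kernel)
    · exact hodd (by omega) (by
        rw [hn, hs]; exact le_trans (by norm_num) (Nat.pow_le_pow_right (by norm_num) h3 : 7 ^ 3 ≤ 7 ^ i))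
  · exact hodd (by omega) (by
      rw [hn]
      exact le_trans (by norm_num) ((Nat.pow_le_pow_left hs 2).trans (Nat.pow_le_pow_right (by omega) hi2)))

end Cfsg.Agent.VecCentralizer
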