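import Cfsg.Agent.Lib.VecCentralizer.ColCount
import Cfsg.Agent.Lib.VecCentralizer.Cert

/-! Colourings given by coordinates or by their sizes. -/

set_option autoImplicit false
set_option linter.style.haveILetI false

namespace Cfsg.Agent.VecCentralizer

variable {P Ω : Type} [Group P] [MulAction P Ω]

/-- Coordinates. -/
theorem Aff.exists_coord (F : Aff P Ω) {s i : ℕ} (hs : F.s = s) (h : Nat.card Ω = s ^ i) :
    Nonempty (F.W ≃+ (Fin i → ZMod s)) := by
  subst hs
  haveI := Fact.mk F.hs
  haveI : Module.Finite (ZMod F.s) F.W := Module.Finite.of_finite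
  have hf : Module.finrank (ZMod F.s) F.W = i := by
    have hc := Module.natCard_eq_pow_finrank (K := ZMod F.s) (V := F.W)
    rw [Nat.card_zmod, F.card_eq, h] at hc
    exact (Nat.pow_right_injective F.hs.two_le hc).symm
  exact ⟨((Module.finBasisOfFinrankEq (ZMod F.s) F.W hf).equivFun).toAddEquiv⟩

/-- Sizes of classes in coordinates. -/
theorem Cert.ncard_co {s i : ℕ} [NeZero s] (F : Aff P Ω) (Ψ : F.W ≃+ (Fin i → ZMod s)) {ι : Type} [DecidableEq ι]
    (f : (Fin i → ZMod s) → ι) (c : ι) :
    {x | f (Cert.co F Ψ x) = c}.ncard = (Finset.univ.filter fun z => f z = c).card := by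
  rw [← Nat.card_coe_set_eq, ← Nat.card_eq_finsetCard]
  exact Nat.card_congr ((F.pt.symm.trans Ψ.toEquiv).subtypeEquiv fun x => by simp [Cert.co])

/-- Renaming colours does not change the stabiliser. -/
theorem triv_rename {ι κ : Type} {π : ι → κ} (hπ : Function.Injective π) {f : Ω → ι} {t : ℕ}
    (h : Triv (colStab P f) Ω t) : Triv (colStab P fun x => π (f x)) Ω t :=
  h.comap (Subgroup.inclusion fun _ hg x => hπ (hg x)) fun _ _ => rfl

/-- Permuted colours of a colouring with classes of distinct sizes. -/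
theorem cols_perm [Finite Ω] {t : ℕ} (f : Ω → Fin 3) (hinj : Function.Injective fun c => {x | f x = c}.ncard)
    (ht : Triv (colStab P f) Ω t) : Cols P Ω 3 5 t := by
  obtain ⟨π, hπ⟩ : ∃ π : Fin 5 → Equiv.Perm (Fin 3), Function.Injective π :=
    ⟨![1, Equiv.swap 0 1, Equiv.swap 0 2, Equiv.swap 1 2, Equiv.swap 0 1 * Equiv.swap 1 2], by decide +kernel⟩
  refine cols_of_count (fun j x => π j (f x)) (fun a b hab => ?_) fun j => triv_rename (π j).injective ht
  by_contra hall
  push Not at hall
  refine hab (hπ (Equiv.symm_bijective.injective (Equiv.ext fun c => hinj ?_)))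
  have h := hall c
  simp only [← Equiv.eq_symm_apply] at h
  exact h

/-- The sizes are given. -/
theorem exists_count [Finite Ω] {z : ℕ} (hz : z ≤ Nat.card Ω) {m : ℕ} (c d : Fin m) (hcd : d ≠ c) :
    ∃ f : Ω → Fin m, {x | f x = c}.ncard = z := by
  classical
  obtain ⟨S, -, hS⟩ := Set.exists_subset_card_eq (s := (Set.univ : Set Ω)) (n := z) (by rwa [Set.ncard_univ])
  refine ⟨fun x => if x ∈ S then c else d, ?_⟩
  rw [show {x | (if x ∈ S then c else d) = c} = S by
    ext x; by_cases h : x ∈ S <;> simp [h, hcd]]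
  exact hS

/-- Five sizes. -/
theorem cols_sizes [Finite Ω] {t : ℕ} (z : Fin 5 → ℕ) (hz : Function.Injective z) (hle : ∀ j, z j ≤ Nat.card Ω)
    (ht : ∀ j, ∀ f : Ω → Fin 2, {x | f x = 0}.ncard = z j → Triv (colStab P f) Ω t) : Cols P Ω 2 5 t := by
  choose f hf using fun j => exists_count (Ω := Ω) (hle j) (0 : Fin 2) 1 (by decide)
  exact cols_of_count f (fun a b hab => ⟨0, by rw [hf, hf]; exact fun e => hab (hz e)⟩) fun j => ht j _ (hf j)

end Cfsg.Agent.VecCentralizer
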