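import Cfsg.Agent.Lib.VecCentralizer.Triv
import Cfsg.Agent.Lib.OddBaseTwo.Imprimitive
import Mathlib.GroupTheory.GroupAction.Primitive

/-! An imprimitive module, as an induced module over a primitive action on the parts. -/

set_option autoImplicit false
set_option linter.style.haveILetI false

namespace Cfsg.Agent.VecCentralizer

open scoped Pointwise
open OddBaseTwo (Inv Irr Prim IsSys subAction lin lin_apply lin_mul_inv lin_inv_mul idem_eq_one sysAction)

/-- The data of an imprimitive module. -/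
structure Imp (A : Type) [Group A] (V : Type) [AddCommGroup V] [DistribMulAction A V] where
  Ω : Type
  [act : MulAction A Ω]
  [finΩ : Finite Ω]
  ω : Ω
  U : Type
  [grpU : AddCommGroup U]
  [finU : Finite U]
  [actU : DistribMulAction (MulAction.stabilizer A ω) U]
  nt : Nontrivial U
  irr : Irr (MulAction.stabilizer A ω) U
  ntΩ : Nontrivial Ω
  prim : MulAction.IsPreprimitive (MulAction.toPermHom A Ω).range Ω
  t : Ω → A
  ht : ∀ e, t e • ω = e
  Φ : V ≃+ (Ω → U)
  equiv : ∀ (a : A) (v : V) (e : Ω) (g : MulAction.stabilizer A ω),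
    (g : A) = (t (a • e))⁻¹ * a * t e → Φ (a • v) (a • e) = g • Φ v e

attribute [instance] Imp.act Imp.finΩ Imp.grpU Imp.finU Imp.actU

variable {A : Type} [Group A] [Finite A] {V : Type} [AddCommGroup V] [Finite V] [DistribMulAction A V]
  (p : ℕ) [Module (ZMod p) V]

/-- Existence. -/
theorem exists_imp [Fact p.Prime] (hirr : Irr A V) (hnp : ¬ Prim A V p) : Nonempty (Imp A V) := by
  classical
  haveI : Finite (Module.End (ZMod p) V) := Finite.of_injective _ DFunLike.coe_injective
  simp only [Prim, not_forall, not_le] at hnp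
  obtain ⟨O, ⟨hO, hO2⟩, hmin⟩ := exists_minimalFor_of_wellFoundedLT
    (fun O : Finset (Module.End (ZMod p) V) => IsSys (A := A) p O ∧ 1 < O.card) Finset.card
    (by obtain ⟨O, hO, h2⟩ := hnp; exact ⟨O, hO, h2⟩)
  letI : MulAction A O := sysAction p hO
  have hsmulO : ∀ (a : A) (e : O), ((a • e : O) : Module.End (ZMod p) V) = lin p a * (e : Module.End (ZMod p) V) * lin p a⁻¹ :=
    fun _ _ => rfl
  have happ : ∀ (a : A) (e : O) (v : V),
      ((a • e : O) : Module.End (ZMod p) V) (a • v) = a • ((e : Module.End (ZMod p) V) v) := by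
    intro a e v
    rw [hsmulO, Module.End.mul_apply, Module.End.mul_apply, lin_apply, lin_apply, inv_smul_smul]
  have horth : ∀ e f : O, e ≠ f → (e : Module.End (ZMod p) V) * f = 0 :=
    fun e f h => hO.orth _ e.2 _ f.2 fun h' => h (Subtype.ext h')
  have hsel : ∀ (e : O) (T : Finset O),
      (e : Module.End (ZMod p) V) * ∑ x ∈ T, (x : Module.End (ZMod p) V) = if e ∈ T then (e : Module.End (ZMod p) V) else 0 := by
    intro e T
    rw [Finset.mul_sum]
    by_cases he : e ∈ T
    · rw [if_pos he, Finset.sum_eq_single e (fun x _ hx => horth e x (Ne.symm hx)) (fun h => absurd he h), hO.idem _ e.2]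
    · rw [if_neg he, Finset.sum_eq_zero fun x hx => horth e x fun h => he (h ▸ hx)]
  have hsum : ∑ x : O, (x : Module.End (ZMod p) V) = 1 := by
    rw [Finset.sum_coe_sort O fun x => x]; exact hO.sum
  have hsum_inj : ∀ T₁ T₂ : Finset O, ∑ x ∈ T₁, (x : Module.End (ZMod p) V) = ∑ x ∈ T₂, (x : Module.End (ZMod p) V) → T₁ = T₂ := by
    intro T₁ T₂ h
    ext e
    have h' := congrArg ((e : Module.End (ZMod p) V) * ·) h
    simp only [hsel] at h'
    have := hO.ne _ e.2
    split_ifs at h' with h1 h2 h2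
    · simp [h1, h2]
    · exact absurd h' this
    · exact absurd h'.symm this
    · simp [h1, h2]
  have hmul_sum : ∀ T₁ T₂ : Finset O, Disjoint T₁ T₂ →
      (∑ x ∈ T₁, (x : Module.End (ZMod p) V)) * ∑ x ∈ T₂, (x : Module.End (ZMod p) V) = 0 := by
    intro T₁ T₂ h
    rw [Finset.sum_mul]
    exact Finset.sum_eq_zero fun e he => by rw [hsel, if_neg (Finset.disjoint_left.1 h he)]
  have hconj_sum : ∀ (a : A) (T : Finset O), lin p a * (∑ x ∈ T, (x : Module.End (ZMod p) V)) * lin p a⁻¹ =
      ∑ x ∈ T.image (fun z : O => a • z), (x : Module.End (ZMod p) V) := by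
    intro a T
    rw [Finset.mul_sum, Finset.sum_mul, Finset.sum_image fun x _ y _ h => smul_left_cancel a h]
    rfl
  have hOne : Nonempty O := by
    obtain ⟨e, he⟩ := Finset.card_pos.1 (by omega : 0 < O.card)
    exact ⟨⟨e, he⟩⟩
  obtain ⟨x₀⟩ := hOne
  -- transitive
  have htrans : ∀ x y : O, ∃ a : A, a • x = y := by
    intro x y
    let T : Finset O := Finset.univ.filter fun z => ∃ a : A, a • x = z
    have hx : x ∈ T := Finset.mem_filter.2 ⟨Finset.mem_univ _, 1, one_smul A x⟩
    have himg : ∀ a : A, T.image (a • ·) = T := by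
      intro a
      refine Finset.eq_of_subset_of_card_le ?_ (Finset.card_image_of_injective _ (MulAction.injective a)).ge
      intro z hz
      obtain ⟨w, hw, rfl⟩ := Finset.mem_image.1 hz
      obtain ⟨b, rfl⟩ := (Finset.mem_filter.1 hw).2
      exact Finset.mem_filter.2 ⟨Finset.mem_univ _, a * b, mul_smul a b x⟩
    set s := ∑ z ∈ T, (z : Module.End (ZMod p) V) with hs
    have hidem : s * s = s := by
      rw [hs, Finset.sum_mul]
      exact Finset.sum_congr rfl fun e he => by rw [hsel, if_pos he]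
    have hs0 : s ≠ 0 := fun h => by
      have := hsum_inj T ∅ (by rw [← hs, h, Finset.sum_empty])
      simp [this] at hx
    have hcomm : ∀ a : A, lin p a * s = s * lin p a := by
      intro a
      have h := hconj_sum a T
      rw [himg, ← hs] at h
      conv_rhs => rw [← h]
      rw [mul_assoc _ (lin p a⁻¹), lin_inv_mul, mul_one]
    have h1 := idem_eq_one p hirr hidem hs0 hcomm
    have hT : T = Finset.univ := hsum_inj _ _ (by rw [← hs, h1, hsum])
    exact (Finset.mem_filter.1 (hT ▸ Finset.mem_univ y : y ∈ T)).2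
  -- the group on the parts
  let φ := MulAction.toPermHom A O
  let P := φ.range
  have hPsmul : ∀ (a : A) (e : O), ((⟨φ a, a, rfl⟩ : P) • e) = a • e := fun _ _ => rfl
  have hNtO : Nontrivial O := Fintype.one_lt_card_iff_nontrivial.1 (by rw [Fintype.card_coe]; exact hO2)
  haveI := hNtO
  have hprim : MulAction.IsPreprimitive P O := by
    haveI : MulAction.IsPretransitive P O := ⟨fun x y => by
      obtain ⟨a, ha⟩ := htrans x y
      exact ⟨⟨φ a, a, rfl⟩, ha⟩⟩
    refine ⟨fun {B} hB => ?_⟩
    by_contra hBt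
    simp only [MulAction.IsTrivialBlock, not_or, Set.not_subsingleton_iff] at hBt
    obtain ⟨hB2, hBu⟩ := hBt
    let blk : A → Finset O := fun a => B.toFinset.image (a • ·)
    let 𝓑 : Finset (Finset O) := Finset.univ.filter fun T => ∃ a, blk a = T
    have hblk : ∀ a : A, ((blk a : Finset O) : Set O) = (⟨φ a, a, rfl⟩ : P) • B := by
      intro a
      simp only [blk, Finset.coe_image, Set.coe_toFinset]
      rfl
    have hdisj : ∀ T₁ ∈ 𝓑, ∀ T₂ ∈ 𝓑, T₁ ≠ T₂ → Disjoint T₁ T₂ := by
      intro T₁ h₁ T₂ h₂ hne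
      obtain ⟨a, rfl⟩ := (Finset.mem_filter.1 h₁).2
      obtain ⟨b, rfl⟩ := (Finset.mem_filter.1 h₂).2
      rw [← Finset.disjoint_coe, hblk, hblk]
      exact hB (fun h => hne (Finset.coe_injective (by rw [hblk, hblk, h])))
    have hcardblk : ∀ T ∈ 𝓑, T.card = B.toFinset.card := by
      intro T hT
      obtain ⟨a, rfl⟩ := (Finset.mem_filter.1 hT).2
      exact Finset.card_image_of_injective _ (MulAction.injective a)
    have hB2' : 2 ≤ B.toFinset.card := Finset.one_lt_card_iff_nontrivial.2 (by
      obtain ⟨x, hx, y, hy, hxy⟩ := hB2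
      exact ⟨x, Set.mem_toFinset.2 hx, y, Set.mem_toFinset.2 hy, hxy⟩)
    have hcover : 𝓑.biUnion id = Finset.univ := by
      refine Finset.eq_univ_iff_forall.2 fun y => ?_
      obtain ⟨x, hx⟩ := hB2.nonempty
      obtain ⟨a, rfl⟩ := htrans x y
      exact Finset.mem_biUnion.2 ⟨blk a, Finset.mem_filter.2 ⟨Finset.mem_univ _, a, rfl⟩,
        Finset.mem_image.2 ⟨x, Set.mem_toFinset.2 hx, rfl⟩⟩
    have htot : O.card = 𝓑.card * B.toFinset.card := by
      rw [← Fintype.card_coe, ← Finset.card_univ, ← hcover, Finset.card_biUnion (t := id) (fun T₁ h₁ T₂ h₂ h => hdisj T₁ h₁ T₂ h₂ h),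
        ← Finset.sum_const_nat (m := B.toFinset.card) hcardblk]
      rfl
    have h𝓑2 : 1 < 𝓑.card := by
      by_contra hle
      refine hBu (Set.eq_univ_iff_forall.2 fun y => ?_)
      have hy : y ∈ 𝓑.biUnion id := hcover ▸ Finset.mem_univ y
      obtain ⟨T, hT, hyT⟩ := Finset.mem_biUnion.1 hy
      have h1 : T = blk 1 :=
        Finset.card_le_one.1 (by omega) T hT _ (Finset.mem_filter.2 ⟨Finset.mem_univ _, 1, rfl⟩)
      rw [h1] at hyT
      obtain ⟨x, hx, hxy⟩ := Finset.mem_image.1 (show y ∈ blk 1 from hyT)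
      rw [one_smul] at hxy
      exact hxy ▸ Set.mem_toFinset.1 hx
    let bs : Finset O → Module.End (ZMod p) V := fun T => ∑ x ∈ T, (x : Module.End (ZMod p) V)
    have hcard : (𝓑.image bs).card = 𝓑.card := Finset.card_image_of_injective _ fun T₁ T₂ h => hsum_inj _ _ h
    have hsys : IsSys (A := A) p (𝓑.image bs) := by
      refine ⟨?_, ?_, ?_, ?_, ?_⟩
      · intro e he
        obtain ⟨T, hT, rfl⟩ := Finset.mem_image.1 he
        intro h0
        have h1 := hsum_inj T ∅ (h0.trans Finset.sum_empty.symm)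
        have h2 := hcardblk T hT
        rw [h1, Finset.card_empty] at h2
        omega
      · intro e he
        obtain ⟨T, -, rfl⟩ := Finset.mem_image.1 he
        simp only [bs, Finset.sum_mul]
        exact Finset.sum_congr rfl fun e he => by rw [hsel, if_pos he]
      · intro e he f hf hne
        obtain ⟨T₁, h₁, rfl⟩ := Finset.mem_image.1 he
        obtain ⟨T₂, h₂, rfl⟩ := Finset.mem_image.1 hf
        exact hmul_sum _ _ (hdisj T₁ h₁ T₂ h₂ fun h => hne (by rw [h]))
      · rw [Finset.sum_image fun T₁ _ T₂ _ h => hsum_inj _ _ h, ← hsum, ← hcover,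
          Finset.sum_biUnion (t := id) fun T₁ h₁ T₂ h₂ h => hdisj T₁ h₁ T₂ h₂ h]
        rfl
      · intro a e he
        obtain ⟨T, hT, rfl⟩ := Finset.mem_image.1 he
        obtain ⟨b, rfl⟩ := (Finset.mem_filter.1 hT).2
        refine Finset.mem_image.2 ⟨blk (a * b), Finset.mem_filter.2 ⟨Finset.mem_univ _, a * b, rfl⟩, ?_⟩
        simp only [bs]
        rw [hconj_sum]
        congr 1
        simp only [blk, Finset.image_image]
        congr 1
        funext x
        exact mul_smul a b x
    have := hmin ⟨hsys, hcard ▸ h𝓑2⟩ (by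
      show (𝓑.image bs).card ≤ O.card
      rw [hcard, htot]; exact Nat.le_mul_of_pos_right _ (by omega))
    rw [hcard, htot] at this
    have : 𝓑.card * 2 ≤ 𝓑.card * B.toFinset.card := Nat.mul_le_mul_left _ hB2'
    omega
  -- the first part
  let U : AddSubgroup V := (x₀ : Module.End (ZMod p) V).toAddMonoidHom.range
  let A₀ := MulAction.stabilizer A x₀
  have hUmem : ∀ u : V, u ∈ U ↔ (x₀ : Module.End (ZMod p) V) u = u :=
    fun u => ⟨fun ⟨w, hw⟩ => by
      have hw : (x₀ : Module.End (ZMod p) V) w = u := hw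
      rw [← hw, ← Module.End.mul_apply, hO.idem _ x₀.2], fun h => ⟨u, h⟩⟩
  have hU : Inv A₀ U := by
    intro a u hu
    rw [hUmem] at hu ⊢
    have h := happ (a : A) x₀ u
    rw [show (a : A) • x₀ = x₀ from a.2, hu] at h
    exact h
  have _hUlt : Nat.card U < Nat.card V := by
    refine lt_of_le_of_ne (Nat.le_of_dvd Nat.card_pos U.card_addSubgroup_dvd_card) fun h => ?_
    obtain ⟨f, hf⟩ := exists_ne x₀
    have htop : U = ⊤ := AddSubgroup.eq_top_of_card_eq U h
    have h1 : (x₀ : Module.End (ZMod p) V) = 1 :=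
      LinearMap.ext fun v => (hUmem v).1 (htop ▸ AddSubgroup.mem_top v)
    have := horth f x₀ hf
    rw [h1, mul_one] at this
    exact hO.ne _ f.2 this
  letI := subAction hU
  have hUirr : Irr A₀ U := by
    intro W hW
    refine or_iff_not_imp_left.2 fun hW0 => ?_
    obtain ⟨w, hwW, hw0⟩ := W.bot_or_exists_ne_zero.resolve_left hW0
    let T : AddSubgroup V :=
      { carrier := {v | ∀ a : A, ∃ w' ∈ W, (x₀ : Module.End (ZMod p) V) (a • v) = (w' : V)}
        zero_mem' := fun a => ⟨0, W.zero_mem, by rw [smul_zero, map_zero]; rfl⟩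
        add_mem' := fun {v v'} hv hv' a => by
          obtain ⟨w1, h1, e1⟩ := hv a
          obtain ⟨w2, h2, e2⟩ := hv' a
          exact ⟨w1 + w2, W.add_mem h1 h2, by rw [smul_add, map_add, e1, e2]; rfl⟩
        neg_mem' := fun {v} hv a => by
          obtain ⟨w1, h1, e1⟩ := hv a
          exact ⟨-w1, W.neg_mem h1, by rw [smul_neg, map_neg, e1]; rfl⟩ }
    have hT : Inv A T := fun b v hv a => by
      obtain ⟨w', hw', e⟩ := hv (a * b)
      exact ⟨w', hw', by rw [← mul_smul]; exact e⟩
    have hwT : (w : V) ∈ T := by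
      intro a
      by_cases ha : a • x₀ = x₀
      · refine ⟨(⟨a, ha⟩ : A₀) • w, hW ⟨a, ha⟩ w hwW, ?_⟩
        exact (hUmem _).1 (hU ⟨a, ha⟩ (w : V) w.2)
      · refine ⟨0, W.zero_mem, ?_⟩
        have h := happ a x₀ (w : V)
        rw [(hUmem _).1 w.2] at h
        rw [← h, ← Module.End.mul_apply, horth x₀ (a • x₀) (Ne.symm ha)]
        rfl
    rcases hirr T hT with hb | ht
    · exact absurd (Subtype.ext (AddSubgroup.mem_bot.1 (hb ▸ hwT))) hw0
    · refine eq_top_iff.2 fun u _ => ?_
      obtain ⟨w', hw', e⟩ := (ht ▸ AddSubgroup.mem_top (u : V) : (u : V) ∈ T) 1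
      rw [one_smul, (hUmem _).1 u.2] at e
      rwa [Subtype.ext e]
  haveI : Nontrivial U := by
    by_contra hc
    refine hO.ne _ x₀.2 (LinearMap.ext fun v => ?_)
    haveI := not_nontrivial_iff_subsingleton.1 hc
    exact congrArg Subtype.val
      (Subsingleton.elim (⟨(x₀ : Module.End (ZMod p) V) v, ⟨v, rfl⟩⟩ : U) 0)
  choose t ht using fun e : O => htrans x₀ e
  let proj : V → O → U := fun v e => ⟨(t e)⁻¹ • (e : Module.End (ZMod p) V) v, by
    rw [hUmem]
    have h := happ (t e)⁻¹ e ((e : Module.End (ZMod p) V) v)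
    rw [show (t e)⁻¹ • e = x₀ from inv_smul_eq_iff.2 (ht e).symm, ← Module.End.mul_apply (e : Module.End (ZMod p) V),
      hO.idem _ e.2] at h
    exact h⟩
  have hcomp : ∀ (q : O → U) (e : O),
      (e : Module.End (ZMod p) V) (∑ f, t f • (q f : V)) = t e • (q e : V) := by
    intro q e
    have hself : ∀ f : O, (f : Module.End (ZMod p) V) (t f • (q f : V)) = t f • (q f : V) := by
      intro f
      have h := happ (t f) x₀ (q f : V)
      rw [ht f, (hUmem _).1 (q f).2] at h
      exact h
    rw [map_sum, Finset.sum_eq_single e ?_ (fun h => absurd (Finset.mem_univ e) h), hself]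
    intro f _ hf
    rw [← hself f, ← Module.End.mul_apply, horth e f (Ne.symm hf)]
    rfl
  let Φ : V ≃+ (O → U) :=
    { toFun := proj
      invFun := fun q => ∑ f, t f • (q f : V)
      left_inv := fun v => by
        show ∑ f, t f • ((t f)⁻¹ • (f : Module.End (ZMod p) V) v) = v
        simp only [smul_inv_smul]
        rw [← LinearMap.sum_apply, hsum, Module.End.one_apply]
      right_inv := fun q => funext fun e => Subtype.ext (by
        show (t e)⁻¹ • (e : Module.End (ZMod p) V) (∑ f, t f • (q f : V)) = q e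
        rw [hcomp, inv_smul_smul])
      map_add' := fun v v' => funext fun e => Subtype.ext (by
        show (t e)⁻¹ • (e : Module.End (ZMod p) V) (v + v') =
          (t e)⁻¹ • (e : Module.End (ZMod p) V) v + (t e)⁻¹ • (e : Module.End (ZMod p) V) v'
        rw [map_add, smul_add]) }
  exact ⟨{ Ω := O, ω := x₀, U := U, nt := inferInstance, irr := hUirr, ntΩ := hNtO, prim := hprim, t := t,
           ht := ht, Φ := Φ,
           equiv := fun a v e g hg => Subtype.ext (by
             show (t (a • e))⁻¹ • ((a • e : O) : Module.End (ZMod p) V) (a • v) =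
               (g : A) • ((t e)⁻¹ • (e : Module.End (ZMod p) V) v)
             rw [hg, happ, mul_smul, mul_smul, smul_inv_smul]) }⟩

end Cfsg.Agent.VecCentralizer
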