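import Cfsg.Agent.Lib.VecCentralizer.Kinds
import Cfsg.Agent.Lib.VecCentralizer.Cols2
import Cfsg.Agent.Lib.VecCentralizer.Cols3

/-! Every irreducible solvable module is of one of the three kinds. -/

set_option autoImplicit false
set_option linter.style.haveILetI false

namespace Cfsg.Agent.VecCentralizer

open OddBaseTwo (Inv Irr CR Prim Img)

variable {A V : Type} [Group A] [AddCommGroup V] [DistribMulAction A V]

/-- The action to its image. -/
abbrev toImg (A V : Type) [Group A] [AddCommGroup V] [DistribMulAction A V] : A →* Img A V :=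
  (MulAction.toPermHom A V).rangeRestrict

theorem Triv.of_img {L : ℕ} (h : Triv (Img A V) V L) : Triv A V L := h.comap (toImg A V) fun _ _ => rfl

theorem Vecs.of_img {k L : ℕ} (h : Vecs (Img A V) V k L) : Vecs A V k L := by
  obtain ⟨v, h1, h2⟩ := h
  refine ⟨v, fun i j hij a => h1 i j hij (toImg A V a), fun i => ?_⟩
  exact (h2 i).comap
    { toFun := fun a => ⟨toImg A V (a : A), a.2⟩
      map_one' := Subtype.ext (map_one (toImg A V))
      map_mul' := fun a b => Subtype.ext (map_mul (toImg A V) (a : A) (b : A)) }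
    fun _ _ => rfl

theorem Kind.of_img (h : Kind (Img A V) V) : Kind A V := by
  rcases h with h | ⟨h, h'⟩ | ⟨h, h'⟩
  · exact Or.inl h.of_img
  · exact Or.inr (Or.inl ⟨h.of_img, h'.of_img⟩)
  · exact Or.inr (Or.inr ⟨h.of_img, h'.of_img⟩)

/-- The imprimitive step. -/
theorem kind_imprimitive [Finite A] [Group.IsSolvable A] (I : Imp A V)
    (hU : Kind (MulAction.stabilizer A I.ω) I.U) : Kind A V := by
  classical
  haveI := I.ntΩ
  haveI : Group.IsSolvable (MulAction.toPermHom A I.Ω).range :=
    Group.isSolvable_of_surjective (MulAction.toPermHom A I.Ω).rangeRestrict_surjective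
  rcases hU with h | ⟨-, h⟩ | ⟨hT, h⟩
  · exact Or.inl (I.vecs_of_cols (cols_five I.prim).of_range h)
  · exact Or.inl (I.vecs_of_cols (cols_three I.prim).of_range h)
  · by_cases h4 : 4 ≤ Nat.card I.Ω
    · exact Or.inl (I.vecs_of_cols (cols_two_colours I.prim h4).of_range h)
    have hlt : Nat.card I.Ω ≤ 3 := by omega
    have hΩ : Triv A I.Ω 2 :=
      (triv_small _ (by omega) A I.Ω le_rfl).mono (by unfold smallDL; split_ifs <;> omega)
    have hA : Triv A V 7 := I.triv_top 2 5 hΩ hT
    refine Or.inr (Or.inl ⟨hA.mono (by norm_num), ?_⟩)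
    have h2 := I.two_le
    choose f hf using fun j : Fin 3 =>
      exists_count (Ω := I.Ω) (show (j : ℕ) ≤ Nat.card I.Ω by have := j.isLt; omega) (0 : Fin 2) 1 (by decide)
    have hc : Cols A I.Ω 2 3 2 :=
      cols_of_count f (fun a b hab => ⟨0, by rw [hf, hf]; exact fun e => hab (Fin.ext e)⟩) fun j => triv_colStab hΩ _
    exact (I.vecs_of_cols hc h).mono (by norm_num)

/-- Below a given order. -/
def KindBelow (N : ℕ) : Prop :=
  ∀ (A V : Type) [Group A] [Finite A] [AddCommGroup V] [Finite V] [DistribMulAction A V],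
    Group.IsSolvable A → Nontrivial V → Irr A V → Nat.card V < N → Kind A V

theorem kind_below : ∀ N : ℕ, KindBelow N := by
  intro N
  induction N with
  | zero => intro A V _ _ _ _ _ _ _ _ h; exact absurd h (Nat.not_lt_zero _)
  | succ N ih =>
    intro A V _ _ _ _ _ hsol hnt hirr hlt
    obtain ⟨p, hp, hexp⟩ := exists_prime_exponent hirr
    haveI := Fact.mk hp
    letI : Module (ZMod p) V := AddCommGroup.zmodModule hexp
    by_cases hprim : Prim (Img A V) V p
    · exact (kind_primitive p (OddBaseTwo.Img.irr_iff.2 hirr) hprim).of_img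
    · obtain ⟨I⟩ := exists_imp p (OddBaseTwo.Img.irr_iff.2 hirr) hprim
      have hI := I.card_lt
      exact (kind_imprimitive I (ih _ I.U inferInstance I.nt I.irr (by omega))).of_img

/-- Every irreducible solvable module. -/
theorem kind_irr [Finite A] [Finite V] [Group.IsSolvable A] [Nontrivial V] (hirr : Irr A V) : Kind A V :=
  kind_below (Nat.card V + 1) A V inferInstance inferInstance hirr (Nat.lt_succ_self _)

end Cfsg.Agent.VecCentralizer
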