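import Cfsg.Agent.Lib.VecCentralizer.DL
import Cfsg.Agent.Lib.VecCentralizer.Numeric
import Cfsg.Agent.S3360

/-! Transitive solvable linear groups have derived length at most five. -/

set_option autoImplicit false
set_option linter.style.haveILetI false

namespace Cfsg.Agent.VecCentralizer

open OddBaseTwo (Inv Irr)
open scoped commutatorElement

theorem ringEquiv_commute {F : Type} [Field F] [Finite F] (σ τ : F ≃+* F) (x : F) : σ (τ x) = τ (σ x) := by
  by_cases hx : x = 0
  · subst hx; simp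
  obtain ⟨u, hu⟩ := IsCyclic.exists_generator (α := Fˣ)
  have hpow : ∀ ρ : F ≃+* F, ∃ i : ℕ, ∀ y : F, y ≠ 0 → ρ y = y ^ i := by
    intro ρ
    obtain ⟨i, hi⟩ := (isOfFinOrder_of_finite u).mem_powers_iff_mem_zpowers.2 (hu (Units.map ρ.toRingHom.toMonoidHom u))
    refine ⟨i, fun y hy => ?_⟩
    obtain ⟨j, hj⟩ := (isOfFinOrder_of_finite u).mem_powers_iff_mem_zpowers.2 (hu (Units.mk0 y hy))
    simp only at hi hj
    have hy' : y = (u : F) ^ j := by rw [← Units.val_pow_eq_pow_val, hj]; rfl
    have hi' : ρ (u : F) = (u : F) ^ i := by rw [← Units.val_pow_eq_pow_val, hi]; rfl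
    rw [hy', map_pow, hi', ← pow_mul, ← pow_mul, mul_comm]
  obtain ⟨i, hi⟩ := hpow σ
  obtain ⟨j, hj⟩ := hpow τ
  rw [hj x hx, hi x hx, hi _ (pow_ne_zero j hx), hj _ (pow_ne_zero i hx), ← pow_mul, ← pow_mul, mul_comm]

theorem triv_transitive {A V : Type} [Group A] [Finite A] [AddCommGroup V] [Finite V] [Nontrivial V]
    [DistribMulAction A V] [FaithfulSMul A V] (hsol : Group.IsSolvable A) (p : ℕ) [hp : Fact p.Prime]
    [Module (ZMod p) V] (htr : ∀ v w : V, v ≠ 0 → w ≠ 0 → ∃ a : A, a • v = w) : Triv A V 5 := by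
  classical
  let ρ : A →* (V ≃ₗ[ZMod p] V) :=
    { toFun := fun a =>
        { DistribMulAction.toAddEquiv V a with
          map_smul' := fun c v => ZMod.map_smul (DistribSMul.toAddMonoidHom V a) c v }
      map_one' := LinearEquiv.ext fun v => one_smul A v
      map_mul' := fun a b => LinearEquiv.ext fun v => mul_smul a b v }
  have hρ : Function.Injective ρ := fun a b h => eq_of_smul_eq_smul (α := V) fun v => LinearEquiv.congr_fun h v
  rcases S3360.result p hsol ρ hρ htr with ⟨F, iF, iFT, e, he⟩ | hsix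
  · let N : Subgroup A :=
      { carrier := {g | ∃ a : F, ∀ v : V, e (g • v) = a * e v}
        one_mem' := ⟨1, fun v => by rw [one_smul, one_mul]⟩
        mul_mem' := by
          rintro g h ⟨a, ha⟩ ⟨b, hb⟩
          exact ⟨a * b, fun v => by rw [mul_smul, ha, hb, mul_assoc]⟩
        inv_mem' := by
          rintro g ⟨a, ha⟩
          refine ⟨a⁻¹, fun v => ?_⟩
          have h1 := ha (g⁻¹ • v)
          rw [smul_inv_smul] at h1
          by_cases ha0 : a = 0
          · subst ha0
            obtain ⟨w, hw⟩ := exists_ne (0 : V)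
            exact absurd ((smul_eq_zero_iff_eq g).1 (e.map_eq_zero_iff.1 (by rw [ha, zero_mul]))) hw
          · rw [h1, inv_mul_cancel_left₀ ha0] }
    have hN : derivedSeries A 1 ≤ N := by
      refine derived_one_le fun g h => ?_
      obtain ⟨a, σ, ha⟩ := he g
      obtain ⟨b, τ, hb⟩ := he h
      have ha' : ∀ v, e (g • v) = a * σ (e v) := ha
      have hb' : ∀ v, e (h • v) = b * τ (e v) := hb
      refine ⟨a * σ b / (b * τ a), fun v => ?_⟩
      obtain ⟨w, rfl⟩ : ∃ w, (h * g) • w = v := ⟨(h * g)⁻¹ • v, smul_inv_smul _ _⟩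
      rw [← mul_smul, show g * h * g⁻¹ * h⁻¹ * (h * g) = g * h by group, mul_smul, mul_smul, ha', hb', hb', ha',
        map_mul, map_mul, ringEquiv_commute σ τ]
      have h0 : ∀ (c : A) (k : F) (ρ : F ≃+* F), (∀ v, e (c • v) = k * ρ (e v)) → k ≠ 0 := by
        intro c k ρ hc hk
        obtain ⟨w, hw⟩ := exists_ne (0 : V)
        exact hw ((smul_eq_zero_iff_eq c).1 (e.map_eq_zero_iff.1 (by rw [hc, hk, zero_mul])))
      have h1 : b * τ a ≠ 0 := mul_ne_zero (h0 h b τ hb') ((map_ne_zero_iff _ τ.injective).2 (h0 g a σ ha'))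
      rw [div_mul_eq_mul_div, eq_div_iff h1]
      ring
    refine fun g hg x => ?_
    have hg2 : g ∈ derivedSeries A 2 := derivedSeries_antitone A (by norm_num) hg
    have hbot : derivedSeries A 2 = ⊥ := by
      rw [derivedSeries_succ, eq_bot_iff, Subgroup.commutator_le]
      intro c hc d hd
      obtain ⟨a, ha⟩ := hN hc
      obtain ⟨b, hb⟩ := hN hd
      rw [Subgroup.mem_bot, commutatorElement_eq_one_iff_mul_comm]
      exact eq_of_smul_eq_smul (α := V) fun v => e.injective (by rw [mul_smul, mul_smul, ha, hb, hb, ha]; ring)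
    rw [hbot, Subgroup.mem_bot] at hg2
    rw [hg2, one_smul]
  · obtain ⟨k, hk0, hk⟩ := exists_card_eq_pow (V := V) (p := p)
    rw [hk] at hsix
    obtain ⟨hcov, hT⟩ := small_transitive hp.out hk0 hsix
    have hirr : Irr A V := by
      intro U hU
      refine or_iff_not_imp_left.2 fun hU0 => eq_top_iff.2 fun w _ => ?_
      obtain ⟨v, hvU, hv0⟩ := U.bot_or_exists_ne_zero.resolve_left hU0
      by_cases hw : w = 0
      · exact hw ▸ U.zero_mem
      · obtain ⟨a, rfl⟩ := htr v w hv0 hw
        exact hU a v hvU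
    exact (dl_irr A V hsol hp.out hcov hk hirr).mono hT

end Cfsg.Agent.VecCentralizer
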