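import Cfsg.Agent.Lib.VecCentralizer.Count
import Cfsg.Agent.Lib.VecCentralizer.Transitive

/-! The three kinds of irreducible modules, and the primitive ones. -/

set_option autoImplicit false
set_option linter.style.haveILetI false

namespace Cfsg.Agent.VecCentralizer

open OddBaseTwo (Inv Irr Prim fixSub mem_fixSub)

/-- The invariant of the induction. -/
def Kind (A V : Type) [Group A] [AddCommGroup V] [DistribMulAction A V] : Prop :=
  Vecs A V 5 9 ∨ (Triv A V 8 ∧ Vecs A V 3 8) ∨ (Triv A V 5 ∧ Vecs A V 2 5)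

theorem vecs_of_triv {A V : Type} [Group A] [AddCommGroup V] [DistribMulAction A V] {k L : ℕ} (h : Triv A V L)
    (v : Fin k → V) (hv : ∀ i j, i ≠ j → ∀ a : A, a • v i ≠ v j) : Vecs A V k L :=
  ⟨v, hv, fun _ => h.sub _⟩

theorem kind_primitive {A V : Type} [Group A] [Finite A] [AddCommGroup V] [Finite V] [Nontrivial V]
    [DistribMulAction A V] [FaithfulSMul A V] [Group.IsSolvable A] (p : ℕ) [hp : Fact p.Prime] [Module (ZMod p) V]
    (hirr : Irr A V) (hprim : Prim A V p) : Kind A V := by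
  classical
  obtain ⟨D⟩ := exists_pdata p hirr hprim
  have hA : 0 < Nat.card A := Nat.card_pos
  by_cases h256 : 256 ≤ D.e
  · -- regular orbits
    left
    have hq := D.three_le_q hp.out (by omega)
    have hcA := D.card_le hp.out
    have hreg := regular_bound hq h256
    have hfew := few_bound hq (show 32 ≤ D.e by omega)
    have hqm : (p ^ D.d) ^ D.e ≤ Nat.card V := by
      rw [D.hV]; exact Nat.pow_le_pow_right (by omega) D.hem
    obtain ⟨X, hX, hX'⟩ : ∃ X, (∀ g : A, g ≠ 1 → Nat.card (fixSub (V := V) g) ≤ X) ∧ X ^ 4 ≤ Nat.card V ^ 3 := by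
      by_cases hne : ∃ g : A, g ≠ 1
      · haveI : Nonempty {g : A // g ≠ 1} := let ⟨g, hg⟩ := hne; ⟨⟨g, hg⟩⟩
        obtain ⟨g₀, hg₀⟩ := Finite.exists_max fun g : {g : A // g ≠ 1} => Nat.card (fixSub (V := V) (g : A))
        exact ⟨_, fun g hg => hg₀ ⟨g, hg⟩, D.fix_four g₀ g₀.2⟩
      · exact ⟨0, fun g hg => absurd ⟨g, hg⟩ hne, by simp⟩
    let bad : Set V := {v | ∃ g ∈ {g : A | g ≠ 1}, g • v = v}
    have hbad : bad.ncard ≤ Nat.card A * X :=
      (fixed_union_le {g : A | g ≠ 1} (Set.toFinite _) hX).trans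
        (Nat.mul_le_mul_right _ (by rw [← Nat.card_coe_set_eq]; exact Finite.card_subtype_le _))
    have h2 : 2 * bad.ncard ≤ Nat.card V := by
      rw [← Nat.pow_le_pow_iff_left (n := 4) (by norm_num)]
      calc (2 * bad.ncard) ^ 4 ≤ (2 * (Nat.card A * X)) ^ 4 := Nat.pow_le_pow_left (Nat.mul_le_mul_left _ hbad) 4
        _ = (2 * Nat.card A) ^ 4 * X ^ 4 := by ring
        _ ≤ (2 * (p ^ D.d * p ^ D.d * D.e ^ 8)) ^ 4 * Nat.card V ^ 3 :=
          Nat.mul_le_mul (Nat.pow_le_pow_left (Nat.mul_le_mul_left _ hcA) 4) hX'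
        _ ≤ Nat.card V * Nat.card V ^ 3 := Nat.mul_le_mul_right _ (hreg.trans hqm)
        _ = _ := by ring
    obtain ⟨v, hv, hv'⟩ := exists_inequiv (G := A) badᶜ 5 (by
      have := Set.ncard_add_ncard_compl bad
      omega)
    refine ⟨v, hv', fun i g hg x => ?_⟩
    have hg1 : (g : A) = 1 := by
      by_contra hne
      exact hv i ⟨(g : A), hne, g.2⟩
    show (g : A) • x = x
    rw [hg1, one_smul]
  have hsec : ∀ (b : ℕ), 1 ≤ b → (∀ s i : ℕ, s.Prime → 1 ≤ i → s ^ i ∣ D.e * D.e → Covered s i ∧ T s i ≤ b) →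
      derivedSeries A b ≤ D.M := fun b hb1 hb =>
    D.derived_le hb1 fun W _ _ _ s i hs hi hdvd hW hirrW => by
      obtain ⟨hcov, hT⟩ := hb s i hs hi hdvd
      exact (dl_irr A W inferInstance hs hcov hW hirrW).mono hT
  by_cases hmany : 4 * Nat.card A + 1 < Nat.card V
  · left
    have h8 := hsec 8 (by norm_num) fun s i hs hi hd => (section_small hs hi hd D.he).1 (by omega)
    obtain ⟨v, hv, hv'⟩ := exists_inequiv (G := A) ({0}ᶜ : Set V) 5 (by
      rw [Set.ncard_compl, Set.ncard_singleton]; omega)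
    exact ⟨v, hv', fun i => D.stab_triv h8 (hv i)⟩
  · have h32 : D.e < 32 := by
      by_contra hc
      push Not at hc hmany
      have hq := D.three_le_q hp.out (by omega)
      have hcA := D.card_le hp.out
      have hfew := few_bound hq hc
      have hqm : (p ^ D.d) ^ D.e ≤ Nat.card V := by
        rw [D.hV]; exact Nat.pow_le_pow_right (by omega) D.hem
      omega
    have h8 : Triv A V 8 := D.triv_of_le (hsec 6 (by norm_num) fun s i hs hi hd => (section_small hs hi hd D.he).2 h32)
    obtain ⟨v, hv⟩ := exists_ne (0 : V)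
    have h0 : ∀ a : A, ∀ w : V, w ≠ 0 → a • w ≠ 0 := fun a w hw e => hw ((smul_eq_zero_iff_eq a).1 e)
    by_cases htr : ∀ a b : V, a ≠ 0 → b ≠ 0 → ∃ g : A, g • a = b
    · refine Or.inr (Or.inr ?_)
      have h5 := triv_transitive inferInstance p htr
      refine ⟨h5, vecs_of_triv h5 ![0, v] fun i j hij a => ?_⟩
      fin_cases i <;> fin_cases j
      · exact absurd rfl hij
      · show a • (0 : V) ≠ v
        rw [smul_zero]; exact hv.symm
      · exact h0 a v hv
      · exact absurd rfl hij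
    · push Not at htr
      obtain ⟨x, y, hx, hy, hxy⟩ := htr
      refine Or.inr (Or.inl ⟨h8, vecs_of_triv h8 ![0, x, y] fun i j hij a => ?_⟩)
      fin_cases i <;> fin_cases j
      · exact absurd rfl hij
      · show a • (0 : V) ≠ x
        rw [smul_zero]; exact hx.symm
      · show a • (0 : V) ≠ y
        rw [smul_zero]; exact hy.symm
      · exact h0 a x hx
      · exact absurd rfl hij
      · exact hxy a
      · exact h0 a y hy
      · exact fun e => hxy a⁻¹ (inv_smul_eq_iff.2 e.symm)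
      · exact absurd rfl hij

end Cfsg.Agent.VecCentralizer
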