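import Cfsg.Agent.Lib.VecCentralizer.Odd

/-! A vector of a completely reducible solvable module with small centraliser. -/

set_option autoImplicit false
set_option linter.style.haveILetI false

namespace Cfsg.Agent.VecCentralizer

open OddBaseTwo (Inv Irr CR Pts subAction)

variable {A V : Type} [Group A] [AddCommGroup V] [DistribMulAction A V]

/-- The vectors of two complementary submodules add up. -/
theorem exists_sum {L : ℕ} {U T : AddSubgroup V} (hU : Inv A U) (hT : Inv A T) (hd : U ⊓ T = ⊥) (hs : U ⊔ T = ⊤)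
    (h1 : letI := subAction hU; ∃ v : U, Triv (MulAction.stabilizer A v) U L)
    (h2 : letI := subAction hT; ∃ v : T, Triv (MulAction.stabilizer A v) T L) :
    ∃ v : V, Triv (MulAction.stabilizer A v) V L := by
  letI := subAction hU
  letI := subAction hT
  obtain ⟨u, hu⟩ := h1
  obtain ⟨t, ht⟩ := h2
  refine ⟨(u : V) + t, ?_⟩
  have hsplit : ∀ a : A, a • ((u : V) + t) = u + t → a • u = u ∧ a • t = t := by
    intro a he
    rw [smul_add] at he
    have hm : a • (u : V) - u ∈ U ⊓ T := by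
      refine AddSubgroup.mem_inf.2 ⟨sub_mem (hU a u u.2) u.2, ?_⟩
      rw [show a • (u : V) - u = (t : V) - a • (t : V) by
        rw [sub_eq_sub_iff_add_eq_add]; exact he.trans (add_comm _ _)]
      exact sub_mem t.2 (hT a t t.2)
    rw [hd, AddSubgroup.mem_bot, sub_eq_zero] at hm
    exact ⟨Subtype.ext hm, Subtype.ext (by rw [hm, add_right_inj] at he; exact he)⟩
  have e1 : Triv (MulAction.stabilizer A ((u : V) + t)) U L :=
    hu.comap (Subgroup.inclusion fun a ha => (hsplit a ha).1) fun _ _ => rfl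
  have e2 : Triv (MulAction.stabilizer A ((u : V) + t)) T L :=
    ht.comap (Subgroup.inclusion fun a ha => (hsplit a ha).2) fun _ _ => rfl
  intro g hg x
  obtain ⟨y, hy, z, hz, rfl⟩ := AddSubgroup.mem_sup.1 (hs ▸ AddSubgroup.mem_top x : x ∈ U ⊔ T)
  have f1 : g • y = y := congrArg Subtype.val (e1 g hg ⟨y, hy⟩)
  have f2 : g • z = z := congrArg Subtype.val (e2 g hg ⟨z, hz⟩)
  rw [smul_add, f1, f2]

/-- Below a given order. -/
def CentBelow (N : ℕ) : Prop :=
  ∀ (A V : Type) [Group A] [Finite A] [AddCommGroup V] [Finite V] [DistribMulAction A V],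
    Group.IsSolvable A → CR A V → Nat.card V < N →
      (∃ v : V, Triv (MulAction.stabilizer A v) V 9) ∧
      (Odd (Nat.card A) → Odd (Nat.card V) → ∃ v : V, Triv (MulAction.stabilizer A v) V 1)

theorem cent_below : ∀ N : ℕ, CentBelow N := by
  intro N
  induction N with
  | zero => intro A V _ _ _ _ _ _ _ h; exact absurd h (Nat.not_lt_zero _)
  | succ N ih =>
    intro A V _ _ _ _ _ hsol hcr hlt
    rcases subsingleton_or_nontrivial V with hV | hV
    · exact ⟨⟨0, fun _ _ x => Subsingleton.elim _ _⟩, fun _ _ => ⟨0, fun _ _ x => Subsingleton.elim _ _⟩⟩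
    by_cases hirr : Irr A V
    · refine ⟨?_, fun hA hV' => ?_⟩
      · rcases kind_irr hirr with ⟨v, -, h⟩ | ⟨-, v, -, h⟩ | ⟨-, v, -, h⟩
        · exact ⟨v 0, h 0⟩
        · exact ⟨v 0, (h 0).mono (by norm_num)⟩
        · exact ⟨v 0, (h 0).mono (by norm_num)⟩
      · obtain ⟨v, -, h⟩ := odd_irr hA hV' hirr
        exact ⟨v 0, h 0⟩
    simp only [Irr, not_forall, not_or] at hirr
    obtain ⟨U, hU, hU0, hU1⟩ := hirr
    obtain ⟨T, hT, hd, hs⟩ := hcr U hU
    have hT1 : T ≠ ⊤ := fun e => hU0 (by rw [← hd, e, inf_top_eq])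
    have hlt' : ∀ S : AddSubgroup V, S ≠ ⊤ → Nat.card S < Nat.card V := fun S hS =>
      lt_of_le_of_ne (Nat.le_of_dvd Nat.card_pos S.card_addSubgroup_dvd_card)
        fun e => hS (AddSubgroup.eq_top_of_card_eq S e)
    have hU' := letI := subAction hU; ih A U hsol (hcr.sub hU) (by have := hlt' U hU1; omega)
    have hT' := letI := subAction hT; ih A T hsol (hcr.sub hT) (by have := hlt' T hT1; omega)
    exact ⟨exists_sum hU hT hd hs hU'.1 hT'.1, fun hA hV' =>
      exists_sum hU hT hd hs (hU'.2 hA (hV'.of_dvd_nat U.card_addSubgroup_dvd_card))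
        (hT'.2 hA (hV'.of_dvd_nat T.card_addSubgroup_dvd_card))⟩

/-- The theorem in any universe. -/
theorem exists_vector {A V : Type*} [Group A] [Finite A] [AddCommGroup V] [Finite V] [DistribMulAction A V]
    [Group.IsSolvable A] (hcr : CR A V) :
    (∃ v : V, Triv (MulAction.stabilizer A v) V 9) ∧
    (Odd (Nat.card A) → Odd (Nat.card V) → ∃ v : V, Triv (MulAction.stabilizer A v) V 1) := by
  let ev : V ≃ Pts (Nat.card V) := Finite.equivFin V
  let ea : A ≃ Pts (Nat.card A) := Finite.equivFin A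
  letI : AddCommGroup (Pts (Nat.card V)) := ev.symm.addCommGroup
  letI : Group (Pts (Nat.card A)) := ea.symm.group
  let φ : V ≃+ Pts (Nat.card V) := (ev.symm.addEquiv).symm
  let ψ : A ≃* Pts (Nat.card A) := (ea.symm.mulEquiv).symm
  letI : DistribMulAction (Pts (Nat.card A)) (Pts (Nat.card V)) :=
    { smul := fun a x => φ (ψ.symm a • φ.symm x)
      one_smul := fun x => show φ (ψ.symm 1 • φ.symm x) = x by
        rw [map_one, one_smul, AddEquiv.apply_symm_apply]
      mul_smul := fun a b x => show φ (ψ.symm (a * b) • φ.symm x) =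
          φ (ψ.symm a • φ.symm (φ (ψ.symm b • φ.symm x))) by
        rw [map_mul, mul_smul, AddEquiv.symm_apply_apply]
      smul_zero := fun a => show φ (ψ.symm a • φ.symm 0) = 0 by rw [map_zero, smul_zero, map_zero]
      smul_add := fun a x y => show φ (ψ.symm a • φ.symm (x + y)) = _ by rw [map_add, smul_add, map_add]; rfl }
  have hsmul : ∀ (a : A) (x : V), ψ a • φ x = φ (a • x) := fun a x => by
    show φ (ψ.symm (ψ a) • φ.symm (φ x)) = _
    rw [MulEquiv.symm_apply_apply, AddEquiv.symm_apply_apply]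
  have hcr' : CR (Pts (Nat.card A)) (Pts (Nat.card V)) := by
    intro U hU
    obtain ⟨W, hW, hd, hs⟩ := hcr (U.comap φ.toAddMonoidHom) fun a v hv => by
      show φ (a • v) ∈ U
      rw [← hsmul]; exact hU _ _ hv
    refine ⟨W.comap φ.symm.toAddMonoidHom, fun a x hx => ?_, ?_, ?_⟩
    · show φ.symm (φ (ψ.symm a • φ.symm x)) ∈ W
      rw [AddEquiv.symm_apply_apply]; exact hW _ _ hx
    · refine (AddSubgroup.eq_bot_iff_forall _).2 fun x hx => ?_
      have : φ.symm x ∈ U.comap φ.toAddMonoidHom ⊓ W := ⟨show φ (φ.symm x) ∈ U by simpa using hx.1, hx.2⟩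
      rw [hd, AddSubgroup.mem_bot] at this
      simpa using congrArg φ this
    · refine eq_top_iff.2 fun x _ => ?_
      obtain ⟨u, hu, w, hw, he⟩ := AddSubgroup.mem_sup.1
        (hs ▸ AddSubgroup.mem_top (φ.symm x) : φ.symm x ∈ U.comap φ.toAddMonoidHom ⊔ W)
      refine AddSubgroup.mem_sup.2 ⟨φ u, hu, φ w, show φ.symm (φ w) ∈ W by simpa using hw, ?_⟩
      rw [← map_add, he, AddEquiv.apply_symm_apply]
  haveI : Group.IsSolvable (Pts (Nat.card A)) :=
    Group.isSolvable_of_surjective (f := ψ.toMonoidHom) ψ.surjective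
  have hback : ∀ {L : ℕ} (v : Pts (Nat.card V)), Triv (MulAction.stabilizer (Pts (Nat.card A)) v) (Pts (Nat.card V)) L →
      Triv (MulAction.stabilizer A (φ.symm v)) V L := by
    intro L v h g hg x
    let f : MulAction.stabilizer A (φ.symm v) →* MulAction.stabilizer (Pts (Nat.card A)) v :=
      { toFun := fun a => ⟨ψ (a : A), by
          show φ (ψ.symm (ψ (a : A)) • φ.symm v) = v
          rw [MulEquiv.symm_apply_apply, a.2, AddEquiv.apply_symm_apply]⟩
        map_one' := Subtype.ext (map_one ψ)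
        map_mul' := fun a b => Subtype.ext (map_mul ψ (a : A) (b : A)) }
    have h1 : ψ (g : A) • φ x = φ x := h (f g) (map_derivedSeries_le_derivedSeries f L ⟨g, hg, rfl⟩) (φ x)
    rw [hsmul] at h1
    exact φ.injective h1
  obtain ⟨h9, hodd⟩ := cent_below (Nat.card (Pts (Nat.card V)) + 1) _ _ inferInstance hcr' (Nat.lt_succ_self _)
  refine ⟨let ⟨v, hv⟩ := h9; ⟨_, hback v hv⟩, fun hA hV => ?_⟩
  obtain ⟨v, hv⟩ := hodd (by rwa [← Nat.card_congr ψ.toEquiv]) (by rwa [← Nat.card_congr φ.toEquiv])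
  exact ⟨_, hback v hv⟩

end Cfsg.Agent.VecCentralizer
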