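import Cfsg.Agent.Lib.VecCentralizer.OddCount
import Cfsg.Agent.Lib.VecCentralizer.Induction

/-! Odd order: vectors with abelian stabiliser. -/

set_option autoImplicit false
set_option linter.style.haveILetI false

namespace Cfsg.Agent.VecCentralizer

open Subgroup
open OddBaseTwo (Inv Irr CR Prim Img fixSub subAction)

variable {A : Type} [Group A] [Finite A] {V : Type} [AddCommGroup V] [Finite V] [DistribMulAction A V]

/-- An irreducible group of odd order in dimension at most two is abelian. -/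
theorem triv_of_small_dim [Nontrivial V] (hA : Odd (Nat.card A)) (hirr : Irr A V) {s i : ℕ} (hs : s.Prime)
    (hcard : Nat.card V = s ^ i) (hi : i ≤ 2) : Triv A V 1 := by
  classical
  haveI : Group.IsSolvable A := OddOrderTheorem.solvable hA
  have hV := Finite.one_lt_card (α := V)
  rcases (show i = 0 ∨ i = 1 ∨ i = 2 by omega) with rfl | rfl | rfl
  · rw [pow_zero] at hcard; omega
  · refine (dl_irr A V inferInstance hs ⟨le_rfl, by unfold dimMax; split_ifs <;> omega⟩ hcard hirr).mono ?_
    unfold T; split_ifs <;> simp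
  have hirr' := OddBaseTwo.Img.irr_iff.2 hirr
  have hA' : Odd (Nat.card (Img A V)) := OddBaseTwo.Img.odd hA
  refine Triv.of_img ?_
  obtain ⟨p, hp, hexp⟩ := exists_prime_exponent hirr
  haveI := Fact.mk hp
  letI : Module (ZMod p) V := AddCommGroup.zmodModule hexp
  by_cases hprim : Prim (Img A V) V p
  · obtain ⟨D⟩ := exists_pdata p hirr' hprim
    obtain ⟨k, -, hk⟩ := exists_card_eq_pow (V := V) (p := p)
    have hps : p = s := by
      rcases Nat.eq_zero_or_pos k with rfl | hk0
      · rw [pow_zero] at hk; omega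
      · exact (Nat.prime_dvd_prime_iff_eq hp hs).1 (hp.dvd_of_dvd_pow (show p ∣ s ^ 2 by
          rw [← hcard, hk]; exact dvd_pow_self p hk0.ne'))
    subst hps
    have hdm := D.k_eq hp hcard
    have he1 : D.e = 1 := by
      have h1 := D.hem
      have h2 : D.m ≤ 2 := Nat.le_of_dvd (by norm_num) (hdm ▸ dvd_mul_left D.m D.d)
      obtain ⟨t, ht⟩ := D.e_odd hA'
      omega
    have hC := D.hone he1
    have hidx : (centralizer (D.U : Set (Img A V))).index = 1 := by
      have h1 : (centralizer (D.U : Set (Img A V))).index ∣ 2 :=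
        D.hidx.trans (hdm ▸ dvd_mul_right D.d D.m)
      rcases (Nat.dvd_prime Nat.prime_two).1 h1 with h | h
      · exact h
      · exact absurd (h ▸ (hA'.of_dvd_nat (Subgroup.index_dvd_card (centralizer (D.U : Set (Img A V))))))
          (by decide)
    have htop := Subgroup.index_eq_one.1 hidx
    rw [hC] at htop
    intro g hg x
    rw [derived_one_of_comm (fun a b => D.hUcomm a (htop ▸ mem_top a) b (htop ▸ mem_top b)), mem_bot] at hg
    rw [hg, one_smul]
  · exfalso
    obtain ⟨I⟩ := exists_imp p hirr' hprim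
    haveI := I.nt
    haveI := I.ntΩ
    have hc := I.card_eq
    rw [hcard] at hc
    have h2 := I.two_le
    have hU : 2 ≤ Nat.card I.U := Finite.one_lt_card
    have hn : Nat.card I.Ω = 2 := by
      obtain ⟨j, -, hj⟩ := (Nat.dvd_prime_pow hs).1 (show Nat.card I.U ∣ s ^ 2 by
        rw [hc]; exact dvd_pow_self _ (by omega))
      rw [hj, ← pow_mul] at hc
      have hjn := Nat.pow_right_injective hs.two_le hc
      rcases Nat.eq_zero_or_pos j with h | h
      · rw [h, pow_zero] at hj; omega
      · have := Nat.le_mul_of_pos_left (Nat.card I.Ω) h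
        omega
    haveI := I.prim
    have hdvd : Nat.card I.Ω ∣ Nat.card (MulAction.toPermHom (Img A V) I.Ω).range := by
      obtain ⟨x⟩ : Nonempty I.Ω := ⟨I.ω⟩
      rw [← MulAction.index_stabilizer_of_transitive (G := (MulAction.toPermHom (Img A V) I.Ω).range) x]
      exact Subgroup.index_dvd_card _
    rw [hn] at hdvd
    exact (hA'.of_dvd_nat (Subgroup.card_range_dvd _)).not_two_dvd_nat hdvd

theorem comm_of_card_lt {G : Type} [Group G] [Finite G] (hG : Odd (Nat.card G)) (h : Nat.card G ≤ 5) :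
    ∀ a b : G, a * b = b * a := by
  haveI := Fintype.ofFinite G
  rcases Nat.lt_or_ge (Nat.card G) 2 with h1 | h1
  · haveI : Subsingleton G := Finite.card_le_one_iff_subsingleton.1 (by omega)
    exact fun a b => Subsingleton.elim _ _
  · haveI : Fact (Nat.card G).Prime := ⟨by
      obtain ⟨t, ht⟩ := hG
      rcases (show t = 1 ∨ t = 2 by omega) with rfl | rfl <;> (rw [ht]; norm_num)⟩
    haveI : IsCyclic G := isCyclic_of_prime_card rfl
    letI := IsCyclic.commGroup (α := G)
    exact mul_comm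

variable {p : ℕ}

/-- Few extraspecial parts: abelian modulo `M`. -/
theorem PData.derived_le_M (D : PData A V p) (hA : Odd (Nat.card A)) (he : D.e < 25) :
    derivedSeries A 1 ≤ D.M := by
  by_cases h9 : D.e = 9
  · haveI := D.nU
    haveI := D.nM
    obtain ⟨K, b, hK, hKb, -, -, -, -, hb9⟩ := OddBaseTwo.section_bound hA D.U D.M D.hP D.hmax D.hnd D.hrel
      (Nat.lt_succ_self _) (OddBaseTwo.below _)
    have hb : K.index ≤ 5 := hKb.trans (hb9 h9)
    have hKn : K.Normal := ⟨fun g hg a => (hK _).2 fun v hv => by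
      have h := D.nU.conj_mem _ ((hK g).1 hg (a⁻¹ * v * a) (by
        simpa using D.nM.conj_mem v hv a⁻¹)) a
      convert h using 1
      group⟩
    have hcomm := comm_of_card_lt (G := A ⧸ K)
      (hA.of_dvd_nat (Subgroup.index_dvd_card K)) (by rwa [← Subgroup.index_eq_card])
    refine derived_one_le fun a b => D.hK _ (D.hAb a b) ((hK _).1 ?_)
    rw [← QuotientGroup.eq_one_iff]
    show (a : A ⧸ K) * (b : A ⧸ K) * (a : A ⧸ K)⁻¹ * (b : A ⧸ K)⁻¹ = 1
    rw [hcomm (a : A ⧸ K) b]
    group
  refine D.derived_le le_rfl fun W _ _ _ s i hs hi hdvd hW hirr => ?_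
  haveI : Nontrivial W := by
    refine Finite.one_lt_card_iff_nontrivial.1 ?_
    rw [hW]; exact Nat.one_lt_pow (by omega) hs.one_lt
  refine triv_of_small_dim hA hirr hs hW ?_
  by_contra h3
  push Not at h3
  have h3' : s ^ 3 ∣ D.e * D.e := (pow_dvd_pow s h3).trans hdvd
  have hse : s ∣ D.e := by
    rcases (Nat.Prime.dvd_mul hs).1 ((dvd_pow_self s (by omega)).trans h3') with h | h <;> exact h
  obtain ⟨c, hc⟩ := hse
  have hs2 : s ^ 2 ∣ D.e := by
    rw [hc, show s ^ 3 = s * s * s by ring, show s * c * (s * c) = s * s * (c * c) by ring] at h3'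
    have h4 : s ∣ c * c := Nat.dvd_of_mul_dvd_mul_left (Nat.mul_pos hs.pos hs.pos) h3'
    rcases (Nat.Prime.dvd_mul hs).1 h4 with h | h <;>
      (rw [hc, pow_two]; exact Nat.mul_dvd_mul_left s h)
  obtain ⟨d, hd⟩ := hs2
  have heo := D.e_odd hA
  have hso : Odd s := heo.of_dvd_nat ⟨c, hc⟩
  have hdo : Odd d := heo.of_dvd_nat ⟨s ^ 2, by rw [hd]; ring⟩
  have hs3 : 3 ≤ s := by obtain ⟨t, ht⟩ := hso; have := hs.two_le; omega
  have hs5 : s < 5 := by
    by_contra h5
    push Not at h5
    have : 25 ≤ s ^ 2 := by nlinarith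
    have : s ^ 2 ≤ D.e := hd ▸ Nat.le_mul_of_pos_right _ (by obtain ⟨t, ht⟩ := hdo; omega)
    omega
  obtain rfl : s = 3 := by obtain ⟨t, ht⟩ := hso; omega
  obtain ⟨t, ht⟩ := hdo
  omega

/-- The primitive case. -/
theorem odd_primitive [FaithfulSMul A V] [Nontrivial V] (hA : Odd (Nat.card A)) (hV : Odd (Nat.card V)) (p : ℕ)
    [hp : Fact p.Prime] [Module (ZMod p) V] (hirr : Irr A V) (hprim : Prim A V p) :
    ∃ v : V, v ≠ 0 ∧ Triv (MulAction.stabilizer A v) V 1 := by
  classical
  haveI : Group.IsSolvable A := OddOrderTheorem.solvable hA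
  obtain ⟨D⟩ := exists_pdata p hirr hprim
  have hstab : ∀ v : V, (∀ g ∈ derivedSeries A 1, g • v = v → g = 1) → Triv (MulAction.stabilizer A v) V 1 := by
    intro v hv g hg x
    have h1 := hv (g : A)
      (map_derivedSeries_le_derivedSeries (MulAction.stabilizer A v).subtype 1 ⟨g, hg, rfl⟩) g.2
    show (g : A) • x = x
    rw [h1, one_smul]
  by_cases he1 : D.e = 1
  · obtain ⟨v, hv⟩ := exists_ne (0 : V)
    refine ⟨v, hv, hstab v fun g hg hgv => ?_⟩
    have hgC : g ∈ centralizer (D.U : Set A) := derived_one_le D.hAb hg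
    rw [D.hone he1] at hgC
    by_contra hne
    exact hv (D.hfpf g hgC hne v hgv)
  by_cases he : D.e < 25
  · obtain ⟨v, hv, hfree⟩ := D.exists_free_M hA hV hp.out he1 he
    exact ⟨v, hv, hstab v fun g hg hgv => hfree g (D.derived_le_M hA he hg) hgv⟩
  push Not at he
  obtain ⟨hq, hq25⟩ := D.q_ge hA hV hp.out he1
  -- the order of the derived subgroup
  obtain ⟨W, i1, i2, i3, hW, hcr, hker⟩ := D.sec
  have heo := D.e_odd hA
  have hWodd : Odd (Nat.card W) := by rw [hW]; exact heo.mul heo
  have hW8 : 8 ≤ Nat.card W := by rw [hW]; nlinarith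
  have hImg := eight_mul_card_le (OddBaseTwo.Img.odd (V := W) hA) hWodd hW8 (OddBaseTwo.Img.cr_iff.2 hcr)
  haveI : Group.IsSolvable (Img A W) := inferInstance
  have hD3 := three_mul_derived_le (OddBaseTwo.Img.odd (V := W) hA)
  set D1 := derivedSeries A 1
  let φ : D1 →* derivedSeries (Img A W) 1 :=
    { toFun := fun g => ⟨toImg A W g, map_derivedSeries_le_derivedSeries (toImg A W) 1 ⟨g, g.2, rfl⟩⟩
      map_one' := Subtype.ext (map_one (toImg A W))
      map_mul' := fun a b => Subtype.ext (map_mul (toImg A W) (a : A) (b : A)) }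
  have hker' : Nat.card φ.ker ≤ Nat.card D.M := by
    refine Nat.card_le_card_of_injective (fun g : φ.ker => (⟨((g : D1) : A), ?_⟩ : D.M))
      fun a b h => Subtype.ext (Subtype.ext (congrArg (fun z : D.M => (z : A)) h :))
    refine D.hK _ (derived_one_le D.hAb (g : D1).2) ((hker _).1 fun x => ?_)
    have h1 : toImg A W ((g : D1) : A) = 1 := congrArg Subtype.val (MonoidHom.mem_ker.1 g.2)
    show (toImg A W ((g : D1) : A)) • x = x
    rw [h1, one_smul]
  have hD : Nat.card D1 ≤ Nat.card D.M * Nat.card (derivedSeries (Img A W) 1) := by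
    rw [← φ.ker.index_mul_card, Nat.mul_comm]
    refine Nat.mul_le_mul hker' ?_
    rw [Subgroup.index_ker]
    exact Nat.card_le_card_of_injective _ Subtype.val_injective
  have h48 : 48 * Nat.card D1 ≤ p ^ D.d * D.e ^ 6 := by
    have h3 : 24 * Nat.card (derivedSeries (Img A W) 1) ≤ Nat.card W * Nat.card W := by
      have : 24 ≤ Nat.card W * Nat.card W := le_trans (by norm_num) (Nat.mul_le_mul hW8 hW8)
      rcases le_max_iff.1 hD3 with h | h <;> omega
    calc 48 * Nat.card D1 ≤ 48 * (Nat.card D.M * Nat.card (derivedSeries (Img A W) 1)) := Nat.mul_le_mul_left _ hD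
      _ = (2 * Nat.card D.U) * (D.e * D.e) * (24 * Nat.card (derivedSeries (Img A W) 1)) := by rw [D.hMcard]; ring
      _ ≤ p ^ D.d * (D.e * D.e) * (Nat.card W * Nat.card W) :=
        Nat.mul_le_mul (Nat.mul_le_mul_right _ (D.two_mul_U hA hV hp.out)) h3
      _ = _ := by rw [hW]; ring
  obtain ⟨X, hX, hX'⟩ : ∃ X, (∀ g ∈ D1, g ≠ 1 → Nat.card (fixSub (V := V) g) ≤ X) ∧ X ^ 3 ≤ Nat.card V ^ 2 := by
    by_cases hne : ∃ g : A, g ≠ 1
    · haveI : Nonempty {g : A // g ≠ 1} := let ⟨g, hg⟩ := hne; ⟨⟨g, hg⟩⟩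
      obtain ⟨g₀, hg₀⟩ := Finite.exists_max fun g : {g : A // g ≠ 1} => Nat.card (fixSub (V := V) (g : A))
      refine ⟨_, fun g _ hg => hg₀ ⟨g, hg⟩, ?_⟩
      have h := OddBaseTwo.fix_bound (V := V) hA D.U D.M D.hUM D.nM D.hfpf D.hcent D.hcomm D.hnd
        (fun g hg => D.hfaith g (mem_centralizer_iff.2 fun a ha => (hg a (D.hUM ha)).symm) hg) (g₀ : A) g₀.2
      rw [← Nat.pow_le_pow_iff_left (n := 2) (by norm_num)]
      calc _ = _ := by ring
        _ ≤ _ := h
        _ = _ := by ring
    · exact ⟨0, fun g _ hg => absurd ⟨g, hg⟩ hne, by simp⟩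
  have hlt : Nat.card D1 * X < 2 * Nat.card V := by
    refine lt_of_pow_lt_pow_left₀ 3 (Nat.zero_le _) ?_
    have hqV : (p ^ D.d) ^ D.e ≤ Nat.card V := by
      rw [D.hV]; exact Nat.pow_le_pow_right (by omega) D.hem
    have h1 : (48 * (Nat.card D1 * X)) ^ 3 < 884736 * Nat.card V ^ 3 := by
      calc (48 * (Nat.card D1 * X)) ^ 3 = (48 * Nat.card D1) ^ 3 * X ^ 3 := by ring
        _ ≤ (p ^ D.d * D.e ^ 6) ^ 3 * Nat.card V ^ 2 := Nat.mul_le_mul (Nat.pow_le_pow_left h48 3) hX'
        _ < 884736 * (p ^ D.d) ^ D.e * Nat.card V ^ 2 :=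
          Nat.mul_lt_mul_of_pos_right (pow_bound_large he heo hq hq25) (pow_pos Nat.card_pos 2)
        _ ≤ 884736 * Nat.card V * Nat.card V ^ 2 := Nat.mul_le_mul_right _ (Nat.mul_le_mul_left _ hqV)
        _ = _ := by ring
    have h2 : (48 * (Nat.card D1 * X)) ^ 3 = 110592 * (Nat.card D1 * X) ^ 3 := by ring
    have h3 : (2 * Nat.card V) ^ 3 = 8 * Nat.card V ^ 3 := by ring
    omega
  obtain ⟨v, hv, hfree⟩ := exists_free_vector hA D1 hX hlt
  exact ⟨v, hv, hstab v hfree⟩

/-- A regular subset and its complement. -/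
theorem cols_regular {P Ω : Type} [Group P] [Finite P] [MulAction P Ω] [Finite Ω] [FaithfulSMul P Ω] [Nontrivial Ω]
    (hP : Odd (Nat.card P)) (hprim : MulAction.IsPreprimitive P Ω) : Cols P Ω 2 2 0 := by
  classical
  obtain ⟨S, hS⟩ := OddBaseTwo.exists_regular_set hP hprim (OddBaseTwo.below _) (Nat.lt_succ_self (Nat.card Ω))
  let f : Fin 2 → Ω → Fin 2 := fun i x => if x ∈ S then i else 1 - i
  have hf : ∀ i x y, f i x = f i y ↔ (x ∈ S ↔ y ∈ S) := by
    intro i x y
    by_cases hx : x ∈ S <;> by_cases hy : y ∈ S <;> simp only [f, hx, hy, if_true, if_false, iff_self,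
      iff_false, iff_true, not_true, not_false_eq_true] <;> revert i <;> decide
  refine ⟨f, fun i j hij a => ?_, fun i g _ x => ?_⟩
  · by_contra hall
    push Not at hall
    have hflip : ∀ x, a • x ∈ S ↔ x ∉ S := by
      intro x
      have h := hall x
      by_cases hx : x ∈ S <;> by_cases hax : a • x ∈ S <;>
        simp only [f, hx, hax, if_true, if_false] at h <;>
        simp only [hx, hax, not_true, not_false_eq_true, iff_self, iff_false, iff_true] <;>
        clear hall <;> revert h hij <;> revert i j <;> decide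
    have h1 : a * a = 1 := hS _ fun x => by rw [mul_smul, hflip, hflip, not_not]
    obtain ⟨x⟩ := (inferInstance : Nonempty Ω)
    have h2 := hflip x
    rw [OddBaseTwo.eq_one_of_sq hP h1, one_smul] at h2
    exact iff_not_self h2
  · have hg1 : (g : P) = 1 := hS _ fun y => (hf i _ _).1 (g.2 y)
    show (g : P) • x = x
    rw [hg1, one_smul]

/-- Below a given order. -/
def OddBelow (N : ℕ) : Prop :=
  ∀ (A V : Type) [Group A] [Finite A] [AddCommGroup V] [Finite V] [DistribMulAction A V],
    Odd (Nat.card A) → Odd (Nat.card V) → Nontrivial V → Irr A V → Nat.card V < N → Vecs A V 2 1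

theorem odd_below : ∀ N : ℕ, OddBelow N := by
  intro N
  induction N with
  | zero => intro A V _ _ _ _ _ _ _ _ _ h; exact absurd h (Nat.not_lt_zero _)
  | succ N ih =>
    intro A V _ _ _ _ _ hA hV hnt hirr hlt
    obtain ⟨p, hp, hexp⟩ := exists_prime_exponent hirr
    haveI := Fact.mk hp
    letI : Module (ZMod p) V := AddCommGroup.zmodModule hexp
    have hA' : Odd (Nat.card (Img A V)) := OddBaseTwo.Img.odd hA
    refine Vecs.of_img ?_
    by_cases hprim : Prim (Img A V) V p
    · obtain ⟨v, hv, ht⟩ := odd_primitive hA' hV p (OddBaseTwo.Img.irr_iff.2 hirr) hprim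
      have hneg : ∀ (w : V) (a : Img A V), w ≠ 0 → a • w ≠ -w := by
        intro w a hw e
        have hx := OddBaseTwo.neg_eq_of_smul_eq_neg hA' e
        have hx2 : 2 • w = 0 := by rw [two_nsmul]; nth_rewrite 1 [← hx]; exact neg_add_cancel w
        exact hV.not_two_dvd_nat (addOrderOf_eq_prime hx2 hw ▸ addOrderOf_dvd_natCard w)
      refine ⟨![v, -v], fun i j hij a => ?_, fun i => ?_⟩
      · fin_cases i <;> fin_cases j
        · exact absurd rfl hij
        · exact hneg v a hv
        · exact fun e => hneg (-v) a (neg_ne_zero.2 hv) (e.trans (neg_neg v).symm)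
        · exact absurd rfl hij
      · fin_cases i
        · exact ht
        · exact ht.comap (Subgroup.inclusion fun a (ha : a • (-v) = -v) =>
            show a • v = v from neg_injective (by rw [← smul_neg, ha])) fun _ _ => rfl
    · obtain ⟨I⟩ := exists_imp p (OddBaseTwo.Img.irr_iff.2 hirr) hprim
      haveI := I.ntΩ
      have hI := I.card_lt
      have hU : Odd (Nat.card I.U) := hV.of_dvd_nat (by
        rw [I.card_eq]; exact dvd_pow_self _ (by have := I.two_le; omega))
      have hvec := ih _ I.U (hA'.of_dvd_nat (MulAction.stabilizer (Img A V) I.ω).card_subgroup_dvd_card) hU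
        I.nt I.irr (by omega)
      exact I.vecs_of_cols (cols_regular (hA'.of_dvd_nat (Subgroup.card_range_dvd _)) I.prim).of_range hvec

/-- Odd order. -/
theorem odd_irr [Nontrivial V] (hA : Odd (Nat.card A)) (hV : Odd (Nat.card V)) (hirr : Irr A V) : Vecs A V 2 1 :=
  odd_below (Nat.card V + 1) A V hA hV inferInstance hirr (Nat.lt_succ_self _)

end Cfsg.Agent.VecCentralizer
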