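import Cfsg.Agent.Lib.VecCentralizer.Count
import Cfsg.Agent.Lib.OddBaseTwo.Main

/-! Counting in primitive groups of odd order. -/

set_option autoImplicit false
set_option linter.style.haveILetI false

namespace Cfsg.Agent.VecCentralizer

open Subgroup
open OddBaseTwo (fixSub mem_fixSub ncard_fix CR Img neg_eq_of_smul_eq_neg eq_one_of_sq)

/-- Eight regular orbits of pairs. -/
theorem eight_mul_card_le {A W : Type} [Group A] [Finite A] [AddCommGroup W] [Finite W] [DistribMulAction A W]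
    [FaithfulSMul A W] (hA : Odd (Nat.card A)) (h2 : Odd (Nat.card W)) (h8 : 8 ≤ Nat.card W) (hcr : CR A W) :
    8 * Nat.card A ≤ Nat.card W * Nat.card W := by
  classical
  obtain ⟨v, w, hvw⟩ := OddBaseTwo.exists_two_vectors hA hcr
  have hne : ∀ x : W, -x = x → x = 0 := by
    intro x hx
    by_contra h0
    have hx2 : 2 • x = 0 := by rw [two_nsmul]; nth_rewrite 1 [← hx]; exact neg_add_cancel x
    exact h2.not_two_dvd_nat (addOrderOf_eq_prime hx2 h0 ▸ addOrderOf_dvd_natCard x)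
  by_cases hdeg : v = 0 ∨ w = 0 ∨ w = v ∨ w = -v
  · -- one vector is enough
    obtain ⟨u, hu⟩ : ∃ u : W, ∀ a : A, a • u = u → a = 1 := by
      rcases hdeg with h | h | h | h
      · exact ⟨w, fun a ha => hvw a (by rw [h, smul_zero]) ha⟩
      · exact ⟨v, fun a ha => hvw a ha (by rw [h, smul_zero])⟩
      · exact ⟨v, fun a ha => hvw a ha (by rw [h, ha])⟩
      · exact ⟨v, fun a ha => hvw a ha (by rw [h, smul_neg, ha])⟩
    have hle : Nat.card A ≤ Nat.card W := Nat.card_le_card_of_injective (fun a : A => a • u) fun a b hab =>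
      (inv_mul_eq_one.1 (hu (b⁻¹ * a) (by rw [mul_smul]; exact inv_smul_eq_iff.2 hab))).symm
    exact Nat.mul_le_mul h8 hle
  push Not at hdeg
  obtain ⟨hv0, hw0, hwv, hwnv⟩ := hdeg
  let sg : Bool → W → W := fun s x => if s then -x else x
  have hfix : ∀ (c : A) (x : W) (s t : Bool), x ≠ 0 → sg s (c • x) = sg t x → c • x = x ∧ s = t := by
    intro c x s t hx he
    have key : c • x = -x → False := fun e => hx (hne x (neg_eq_of_smul_eq_neg hA e))
    cases s <;> cases t <;> simp only [sg, if_true, if_false, Bool.false_eq_true] at he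
    · exact ⟨he, rfl⟩
    · exact (key he).elim
    · exact (key (neg_eq_iff_eq_neg.1 he)).elim
    · exact ⟨neg_injective he, rfl⟩
  have hsg : ∀ (c : A) (s : Bool) (x : W), c • sg s x = sg s (c • x) := fun c s x => by
    cases s <;> simp [sg]
  let f : A × Bool × Bool × Bool → W × W := fun q =>
    if q.2.2.2 then (sg q.2.2.1 (q.1 • w), sg q.2.1 (q.1 • v)) else (sg q.2.1 (q.1 • v), sg q.2.2.1 (q.1 • w))
  have hf : Function.Injective f := by
    rintro ⟨a, s, t, x⟩ ⟨b, s', t', x'⟩ he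
    have hmove : ∀ (y z : W) (i j : Bool), sg i (a • y) = sg j (b • z) → sg i ((b⁻¹ * a) • y) = sg j z := by
      intro y z i j h
      rw [mul_smul, ← hsg, h, hsg, inv_smul_smul]
    have hdiff : ∀ c : A, ∀ (i j k l : Bool), sg i (c • v) = sg j w → sg k (c • w) = sg l v → False := by
      intro c i j k l e1 e2
      obtain ⟨m, hcv⟩ : ∃ m, c • v = sg m w := by
        cases i <;> cases j <;> simp [sg, neg_eq_iff_eq_neg] at e1 ⊢ <;> simp [e1]
      obtain ⟨n, hcw⟩ : ∃ n, c • w = sg n v := by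
        cases k <;> cases l <;> simp [sg, neg_eq_iff_eq_neg] at e2 ⊢ <;> simp [e2]
      have h2v : (c * c) • v = v := (hfix (c * c) v false (xor m n) hv0 (by
        show (c * c) • v = _
        rw [mul_smul, hcv, hsg, hcw]
        cases m <;> cases n <;> simp [sg])).1
      have h2w : (c * c) • w = w := (hfix (c * c) w false (xor m n) hw0 (by
        show (c * c) • w = _
        rw [mul_smul, hcw, hsg, hcv]
        cases m <;> cases n <;> simp [sg])).1
      have hc1 := eq_one_of_sq hA (hvw _ h2v h2w)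
      subst hc1
      rw [one_smul] at hcv
      cases m <;> simp [sg] at hcv
      · exact hwv hcv.symm
      · exact hwnv (by rw [hcv, neg_neg])
    cases x <;> cases x' <;> simp only [f, if_true, if_false, Bool.false_eq_true, Prod.mk.injEq] at he
    · obtain ⟨h1, rfl⟩ := hfix _ v s s' hv0 (hmove _ _ _ _ he.1)
      obtain ⟨h2, rfl⟩ := hfix _ w t t' hw0 (hmove _ _ _ _ he.2)
      rw [inv_mul_eq_one.1 (hvw _ h1 h2)]
    · exact (hdiff _ _ _ _ _ (hmove _ _ _ _ he.1) (hmove _ _ _ _ he.2)).elim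
    · exact (hdiff _ _ _ _ _ (hmove _ _ _ _ he.2) (hmove _ _ _ _ he.1)).elim
    · obtain ⟨h1, rfl⟩ := hfix _ v s s' hv0 (hmove _ _ _ _ he.2)
      obtain ⟨h2, rfl⟩ := hfix _ w t t' hw0 (hmove _ _ _ _ he.1)
      rw [inv_mul_eq_one.1 (hvw _ h1 h2)]
  have h := Nat.card_le_card_of_injective f hf
  rw [Nat.card_prod, Nat.card_prod, Nat.card_prod, Nat.card_prod, Nat.card_eq_fintype_card (α := Bool),
    Fintype.card_bool] at h
  omega

/-- The derived subgroup of a group of odd order has index at least three, if proper. -/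
theorem three_mul_derived_le {G : Type} [Group G] [Finite G] (hG : Odd (Nat.card G)) [Group.IsSolvable G] :
    3 * Nat.card (derivedSeries G 1) ≤ max (Nat.card G) 3 := by
  by_cases h : derivedSeries G 1 = ⊤
  · have htriv : Nat.card G = 1 := by
      obtain ⟨n, hn⟩ := (Group.isSolvable_def G).1 inferInstance
      have hall : ∀ k, derivedSeries G k = ⊤ := by
        intro k
        induction k with
        | zero => rfl
        | succ k ih =>
          rw [derivedSeries_succ, ih]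
          rwa [derivedSeries_succ, derivedSeries_zero] at h
      rw [hall] at hn
      rw [← Subgroup.card_top (G := G), hn, Subgroup.card_bot]
    have := (derivedSeries G 1).card_le_card_group
    omega
  · have h1 : (derivedSeries G 1).index ≠ 1 := fun e => h (Subgroup.index_eq_one.1 e)
    have h2 : Odd (derivedSeries G 1).index := hG.of_dvd_nat (Subgroup.index_dvd_card _)
    have h3 : 3 ≤ (derivedSeries G 1).index := by obtain ⟨t, ht⟩ := h2; omega
    refine le_trans ?_ (le_max_left _ _)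
    rw [← (derivedSeries G 1).index_mul_card]
    exact Nat.mul_le_mul_right _ h3

theorem pow_bound_large {e q : ℕ} (he : 25 ≤ e) (heo : Odd e) (hq : 7 ≤ q) (h25 : e = 25 → 11 ≤ q) :
    (q * e ^ 6) ^ 3 < 884736 * q ^ e := by
  have key : ∀ m, 27 ≤ m → 343 * m ^ 18 < 884736 * 7 ^ m := by
    intro m hm
    induction m, hm using Nat.le_induction with
    | base => norm_num
    | succ m hm ih =>
      have h1 : 27 ^ 18 * (m + 1) ^ 18 ≤ 28 ^ 18 * m ^ 18 := by
        rw [← mul_pow, ← mul_pow]; exact Nat.pow_le_pow_left (by omega) 18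
      have h2 : 28 ^ 18 * m ^ 18 ≤ 7 * 27 ^ 18 * m ^ 18 := Nat.mul_le_mul_right _ (by norm_num)
      have h3 : (m + 1) ^ 18 ≤ 7 * m ^ 18 := by
        rw [show 7 * 27 ^ 18 * m ^ 18 = 27 ^ 18 * (7 * m ^ 18) by ring] at h2
        exact Nat.le_of_mul_le_mul_left (h1.trans h2) (by norm_num)
      calc 343 * (m + 1) ^ 18 ≤ 7 * (343 * m ^ 18) := by linarith
        _ < 7 * (884736 * 7 ^ m) := by linarith
        _ = _ := by rw [pow_succ]; ring
  obtain ⟨j, rfl⟩ : ∃ j, e = j + 3 := ⟨e - 3, by omega⟩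
  suffices h : (j + 3) ^ 18 < 884736 * q ^ j by
    have hq3 : 0 < q ^ 3 := by positivity
    calc (q * (j + 3) ^ 6) ^ 3 = q ^ 3 * (j + 3) ^ 18 := by ring
      _ < q ^ 3 * (884736 * q ^ j) := Nat.mul_lt_mul_of_pos_left h hq3
      _ = _ := by ring
  by_cases h22 : j = 22
  · subst h22
    exact lt_of_lt_of_le (by norm_num : (22 + 3) ^ 18 < 884736 * 11 ^ 22)
      (Nat.mul_le_mul_left _ (Nat.pow_le_pow_left (h25 rfl) _))
  · have h27 : 27 ≤ j + 3 := by obtain ⟨t, ht⟩ := heo; omega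
    have h := key _ h27
    rw [show 7 ^ (j + 3) = 343 * 7 ^ j by ring] at h
    have h' : (j + 3) ^ 18 < 884736 * 7 ^ j := by linarith
    exact lt_of_lt_of_le h' (Nat.mul_le_mul_left _ (Nat.pow_le_pow_left hq _))

theorem pow_bound_small {e q : ℕ} (he : 3 ≤ e) (he' : e < 25) (hq : 7 ≤ q) : (q * (e * e)) ^ 3 < 8 * q ^ (2 * e) := by
  obtain ⟨j, rfl⟩ : ∃ j, e = j + 3 := ⟨e - 3, by omega⟩
  have h : ((j + 3) * (j + 3)) ^ 3 < 8 * q ^ (2 * j + 3) := by
    refine lt_of_lt_of_le ?_ (Nat.mul_le_mul_left _ (Nat.pow_le_pow_left hq _))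
    have hj : j ≤ 21 := by omega
    interval_cases j <;> norm_num
  have hq3 : 0 < q ^ 3 := by positivity
  calc (q * ((j + 3) * (j + 3))) ^ 3 = q ^ 3 * ((j + 3) * (j + 3)) ^ 3 := by ring
    _ < q ^ 3 * (8 * q ^ (2 * j + 3)) := Nat.mul_lt_mul_of_pos_left h hq3
    _ = _ := by rw [show 2 * (j + 3) = 3 + (2 * j + 3) by ring, pow_add q 3]; ring

variable {A : Type} [Group A] [Finite A] {V : Type} [AddCommGroup V] [Finite V] [DistribMulAction A V]

/-- Pairs of mutually inverse elements. -/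
theorem exists_free_vector [Nontrivial V] (hA : Odd (Nat.card A)) (H : Subgroup A) {X : ℕ}
    (hX : ∀ g ∈ H, g ≠ 1 → Nat.card (fixSub (V := V) g) ≤ X)
    (hlt : Nat.card H * X < 2 * Nat.card V) :
    ∃ v : V, v ≠ 0 ∧ ∀ g ∈ H, g • v = v → g = 1 := by
  classical
  by_cases hH : ∀ g ∈ H, g = 1
  · obtain ⟨v, hv⟩ := exists_ne (0 : V)
    exact ⟨v, hv, fun g hg _ => hH g hg⟩
  push Not at hH
  obtain ⟨g₀, hg₀, hg₀1⟩ := hH
  let bad : Set V := {v | ∃ g ∈ H, g ≠ 1 ∧ g • v = v}
  have hbad : 2 * bad.ncard ≤ Nat.card H * X := by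
    haveI := Fintype.ofFinite H
    choose g hgH hg1 hgv using fun v : bad => v.2
    let f : bad × Bool → Σ h : {h : H // h ≠ 1}, fixSub (V := V) ((h : H) : A) := fun q =>
      if q.2 then ⟨⟨⟨g q.1, hgH _⟩, fun e => hg1 q.1 (congrArg Subtype.val e)⟩, ⟨q.1, hgv q.1⟩⟩
      else ⟨⟨⟨(g q.1)⁻¹, H.inv_mem (hgH _)⟩, fun e => hg1 q.1 (inv_eq_one.1 (congrArg Subtype.val e))⟩,
        ⟨q.1, inv_smul_eq_iff.2 (hgv q.1).symm⟩⟩
    have hf : Function.Injective f := by
      rintro ⟨v, b⟩ ⟨v', b'⟩ he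
      have hv : v = v' := by
        have := congrArg (fun s : Σ h : {h : H // h ≠ 1}, fixSub (V := V) ((h : H) : A) => (s.2 : V)) he
        cases b <;> cases b' <;> exact Subtype.ext (by simpa [f] using this)
      subst hv
      have := congrArg (fun s : Σ h : {h : H // h ≠ 1}, fixSub (V := V) ((h : H) : A) => ((s.1 : H) : A)) he
      cases b <;> cases b' <;> simp only [f, if_true, if_false, Bool.false_eq_true] at this <;>
        first
        | rfl
        | exact absurd (eq_one_of_sq hA (by first | (nth_rewrite 1 [← this]; exact inv_mul_cancel _)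
                                                   | (nth_rewrite 1 [this]; exact inv_mul_cancel _))) (hg1 v)
    have h := Nat.card_le_card_of_injective f hf
    rw [Nat.card_prod, Nat.card_coe_set_eq, Nat.card_eq_fintype_card (α := Bool), Fintype.card_bool,
      Nat.card_sigma] at h
    rw [Nat.mul_comm]
    refine h.trans ((Finset.sum_le_card_nsmul _ _ X fun (k : {h : H // h ≠ 1}) _ =>
      hX _ (k : H).2 fun e => k.2 (Subtype.ext e)).trans ?_)
    rw [smul_eq_mul, Finset.card_univ, ← Nat.card_eq_fintype_card]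
    exact Nat.mul_le_mul_right _ (Finite.card_subtype_le _)
  obtain ⟨v, hv⟩ : ∃ v, v ∉ bad := by
    by_contra hc
    push Not at hc
    have : bad = Set.univ := Set.eq_univ_of_forall hc
    rw [this, Set.ncard_univ] at hbad
    omega
  refine ⟨v, fun e => hv ⟨g₀, hg₀, hg₀1, by rw [e, smul_zero]⟩, fun g hg hgv => ?_⟩
  by_contra h1
  exact hv ⟨g, hg, h1, hgv⟩

variable {p : ℕ} (D : PData A V p)

omit [Finite A] in
/-- Fixed vectors of the elements of `M`. -/
theorem PData.fix_cube [Finite A] (hA : Odd (Nat.card A)) {u : A} (hu : u ∈ D.M) (hu1 : u ≠ 1) :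
    Nat.card (fixSub (V := V) u) ^ 3 ≤ Nat.card V := by
  by_cases huU : u ∈ D.U
  · have hbot : fixSub (V := V) u = ⊥ := (AddSubgroup.eq_bot_iff_forall _).2 (D.hfpf u huU hu1)
    rw [hbot, AddSubgroup.card_bot, one_pow]
    exact Nat.card_pos
  · obtain ⟨v, hv, hne⟩ : ∃ v ∈ D.M, u * v ≠ v * u := by
      by_contra hc
      push Not at hc
      exact huU (D.hnd u hu hc)
    set a := u * v * u⁻¹ * v⁻¹ with ha
    have haU : a ∈ D.U := D.hcomm u hu v hv
    have ha1 : a ≠ 1 := fun e => hne (mul_inv_eq_iff_eq_mul.1 (mul_inv_eq_one.1 e))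
    have ha2 : a * a ≠ 1 := fun e => ha1 (eq_one_of_sq hA e)
    have := OddBaseTwo.cube_fix_le (V := V) (g := u) (v := v) (a := a) (by rw [ha]; group) (D.hcent a haU u hu)
      (D.hcent a haU v hv) (D.hfpf a haU ha1) (D.hfpf _ (D.U.mul_mem haU haU) ha2)
    calc _ = _ := by ring
      _ ≤ _ := this

theorem PData.two_mul_U (hA : Odd (Nat.card A)) (hV : Odd (Nat.card V)) (hp : p.Prime) :
    2 * Nat.card D.U ≤ p ^ D.d := by
  have hU : Odd (Nat.card D.U) := hA.of_dvd_nat D.U.card_subgroup_dvd_card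
  have hpo : Odd (p ^ D.d) := hV.of_dvd_nat (by rw [D.hV]; exact dvd_pow_self _ D.hm.ne')
  obtain ⟨t, ht⟩ := hpo
  have h2 : Nat.card D.U ∣ t := by
    have h := D.hUdvd
    rw [ht, Nat.add_sub_cancel] at h
    exact (Nat.Coprime.dvd_of_dvd_mul_left hU.coprime_two_right h)
  rcases Nat.eq_zero_or_pos t with h0 | h0
  · exfalso
    have := Nat.one_lt_pow D.hd.ne' hp.one_lt
    omega
  · have := Nat.le_of_dvd h0 h2
    omega

theorem PData.e_odd (hA : Odd (Nat.card A)) : Odd D.e := by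
  have : Odd (Nat.card D.M) := hA.of_dvd_nat D.M.card_subgroup_dvd_card
  rw [D.hMcard] at this
  exact (Nat.odd_mul.1 (Nat.odd_mul.1 this).2).1

theorem PData.q_bound (hA : Odd (Nat.card A)) (hV : Odd (Nat.card V)) (hp : p.Prime) {r : ℕ} (hr : r.Prime)
    (hre : r ∣ D.e) : 2 * r ≤ p ^ D.d := by
  have h1 := D.two_mul_U hA hV hp
  have h2 := Nat.le_of_dvd Nat.card_pos (D.hdiv r hr hre)
  omega

theorem PData.q_ge (hA : Odd (Nat.card A)) (hV : Odd (Nat.card V)) (hp : p.Prime) (he : D.e ≠ 1) :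
    7 ≤ p ^ D.d ∧ (D.e = 25 → 11 ≤ p ^ D.d) := by
  have hpo : Odd (p ^ D.d) := hV.of_dvd_nat (by rw [D.hV]; exact dvd_pow_self _ D.hm.ne')
  obtain ⟨r, hr, hre⟩ := Nat.exists_prime_and_dvd he
  have h3 : 3 ≤ r := by
    rcases hr.two_le.lt_or_eq with h | h
    · omega
    · exact absurd (h ▸ hre) (D.e_odd hA).not_two_dvd_nat
  have := D.q_bound hA hV hp hr hre
  obtain ⟨t, ht⟩ := hpo
  refine ⟨by omega, fun h => ?_⟩
  have := D.q_bound hA hV hp (r := 5) (by norm_num) (h ▸ by norm_num)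
  omega

include D in
/-- A vector whose stabiliser meets `M` trivially. -/
theorem PData.exists_free_M [Nontrivial V] (hA : Odd (Nat.card A)) (hV : Odd (Nat.card V)) (hp : p.Prime)
    (he1 : D.e ≠ 1) (he : D.e < 25) : ∃ v : V, v ≠ 0 ∧ ∀ g ∈ D.M, g • v = v → g = 1 := by
  classical
  obtain ⟨hq, -⟩ := D.q_ge hA hV hp he1
  have he3 : 3 ≤ D.e := by
    have := D.he
    obtain ⟨t, ht⟩ := D.e_odd hA
    omega
  haveI := Fintype.ofFinite A
  obtain ⟨g₀, hg₀f, hg₀⟩ := Finset.exists_max_image (Finset.univ.filter fun g : A => g ∈ D.M)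
    (fun g => if g = 1 then 0 else Nat.card (fixSub (V := V) g)) ⟨1, by simp⟩
  set X := if g₀ = 1 then 0 else Nat.card (fixSub (V := V) g₀) with hXdef
  have hg₀M : g₀ ∈ D.M := (Finset.mem_filter.1 hg₀f).2
  have hX : ∀ g ∈ D.M, g ≠ 1 → Nat.card (fixSub (V := V) g) ≤ X := fun g hg hg1 => by
    have := hg₀ g (Finset.mem_filter.2 ⟨Finset.mem_univ _, hg⟩)
    rwa [if_neg hg1] at this
  refine exists_free_vector hA D.M hX ?_
  have hX3 : X ^ 3 ≤ Nat.card V := by
    by_cases h : g₀ = 1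
    · rw [hXdef, if_pos h]; simp
    · rw [hXdef, if_neg h]; exact D.fix_cube hA hg₀M h
  refine lt_of_le_of_lt (b := Nat.card D.M * X) le_rfl ?_
  refine lt_of_pow_lt_pow_left₀ 3 (Nat.zero_le _) ?_
  have hU := D.two_mul_U hA hV hp
  have hM : (2 * Nat.card D.M) ^ 3 ≤ (p ^ D.d * (D.e * D.e)) ^ 3 := by
    refine Nat.pow_le_pow_left ?_ 3
    rw [D.hMcard, ← Nat.mul_assoc]
    exact Nat.mul_le_mul_right _ hU
  have hVq : (p ^ D.d) ^ (2 * D.e) ≤ Nat.card V ^ 2 := by
    rw [D.hV, ← pow_mul (p ^ D.d) D.m 2]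
    exact Nat.pow_le_pow_right (by omega) (by have := D.hem; omega)
  have hb := pow_bound_small he3 he hq
  have : (2 * (Nat.card D.M * X)) ^ 3 < 8 * Nat.card V ^ 3 := by
    calc (2 * (Nat.card D.M * X)) ^ 3 = (2 * Nat.card D.M) ^ 3 * X ^ 3 := by ring
      _ ≤ (p ^ D.d * (D.e * D.e)) ^ 3 * Nat.card V := Nat.mul_le_mul hM hX3
      _ < 8 * (p ^ D.d) ^ (2 * D.e) * Nat.card V := Nat.mul_lt_mul_of_pos_right hb Nat.card_pos
      _ ≤ 8 * Nat.card V ^ 2 * Nat.card V := Nat.mul_le_mul_right _ (Nat.mul_le_mul_left _ hVq)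
      _ = _ := by ring
  calc (Nat.card D.M * X) ^ 3 < Nat.card V ^ 3 := by
        have h8 : (2 * (Nat.card D.M * X)) ^ 3 = 8 * (Nat.card D.M * X) ^ 3 := by ring
        omega
    _ ≤ (2 * Nat.card V) ^ 3 := Nat.pow_le_pow_left (by omega) 3

end Cfsg.Agent.VecCentralizer
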