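import Cfsg.Agent.Lib.VecCentralizer.Section
import Cfsg.Agent.Lib.OddBaseTwo.Field
import Cfsg.Agent.Lib.Huppert.Main

/-! The structure of a primitive solvable linear group. -/

set_option autoImplicit false
set_option linter.style.haveILetI false

namespace Cfsg.Agent.VecCentralizer

open Subgroup
open OddBaseTwo (Inv Irr Prim CR)

/-- The normal series `U ≤ M` of a primitive group. -/
structure PData (A : Type) [Group A] (V : Type) [AddCommGroup V] [DistribMulAction A V] (p : ℕ) where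
  U : Subgroup A
  M : Subgroup A
  nU : U.Normal
  nM : M.Normal
  e : ℕ
  d : ℕ
  m : ℕ
  he : 1 ≤ e
  hd : 0 < d
  hm : 0 < m
  hem : e ≤ m
  hV : Nat.card V = (p ^ d) ^ m
  hUdvd : Nat.card U ∣ p ^ d - 1
  hdiv : ∀ r : ℕ, r.Prime → r ∣ e → r ∣ Nat.card U
  hMcard : Nat.card M = Nat.card U * (e * e)
  hidx : (centralizer (U : Set A)).index ∣ d
  hfpf : ∀ u ∈ U, u ≠ 1 → ∀ v : V, u • v = v → v = 0
  hUM : U ≤ M
  hMC : M ≤ centralizer (U : Set A)
  hUcomm : ∀ a ∈ U, ∀ b ∈ U, a * b = b * a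
  hcent : ∀ a ∈ U, ∀ v ∈ M, a * v = v * a
  hcomm : ∀ u ∈ M, ∀ v ∈ M, u * v * u⁻¹ * v⁻¹ ∈ U
  hnd : ∀ u ∈ M, (∀ v ∈ M, u * v = v * u) → u ∈ U
  hfaith : ∀ g ∈ centralizer (U : Set A), (∀ v ∈ M, g * v = v * g) → g ∈ U
  hK : ∀ g ∈ centralizer (U : Set A), (∀ v ∈ M, g * v * g⁻¹ * v⁻¹ ∈ U) → g ∈ M
  hone : e = 1 → centralizer (U : Set A) = U
  hAb : ∀ a b : A, a * b * a⁻¹ * b⁻¹ ∈ centralizer (U : Set A)
  hP : Huppert.Pairing U M
  hmax : ∀ B : Subgroup A, B.Normal → (∀ a ∈ B, ∀ b ∈ B, a * b = b * a) → U ≤ B → B = U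
  hrel : U.relIndex M = e * e
  sec : ∃ (W : Type) (_ : AddCommGroup W) (_ : Finite W) (_ : DistribMulAction A W), Nat.card W = e * e ∧ CR A W ∧
      ∀ g : A, (∀ x : W, g • x = x) ↔ ∀ v ∈ M, g * v * g⁻¹ * v⁻¹ ∈ U

variable {A : Type} [Group A] [Finite A] {V : Type} [AddCommGroup V] [Finite V] [DistribMulAction A V]

/-- Existence. -/
theorem exists_pdata [FaithfulSMul A V] [Nontrivial V] [Group.IsSolvable A] (p : ℕ) [Fact p.Prime]
    [Module (ZMod p) V] (hirr : Irr A V) (hprim : Prim A V p) : Nonempty (PData A V p) := by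
  classical
  obtain ⟨U, -, hUmax⟩ := Finite.exists_le_maximal (α := Subgroup A)
    (p := fun U => U.Normal ∧ ∀ x ∈ U, ∀ y ∈ U, x * y = y * x) (a := ⊥)
    ⟨inferInstance, fun x hx y hy => by rw [mem_bot.1 hx, mem_bot.1 hy]⟩
  obtain ⟨hUn, hU⟩ := hUmax.prop
  haveI := hUn
  have hmax : ∀ B : Subgroup A, B.Normal → (∀ a ∈ B, ∀ b ∈ B, a * b = b * a) → U ≤ B → B = U :=
    fun B hB hBc hUB => le_antisymm (hUmax.2 ⟨hB, hBc⟩ hUB) hUB
  obtain ⟨d, m, hd, hm, hV, hUdvd, hidx, hcyc, hfpf, hbound⟩ := OddBaseTwo.field_data p hirr hprim U hU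
  haveI := hcyc
  obtain ⟨M, hMn, hP, hMC, hnd, hfaith, hK, hUM⟩ := Huppert.exists_class_two U hU hmax
  haveI := hMn
  obtain ⟨e, he⟩ : ∃ e, U.relIndex M = e * e := by
    obtain ⟨k, hk⟩ := Huppert.exists_sq hP
    have h : M ⊓ centralizer (M : Set A) = U := le_antisymm
      (fun u hu => hnd u hu.1 fun v hv => (mem_centralizer_iff.1 hu.2 v hv).symm)
      (le_inf hP.le fun a ha => mem_centralizer_iff.2 fun v hv => (hP.central a ha v hv).symm)
    exact ⟨k, by rw [← h]; exact hk⟩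
  have hMcard : Nat.card M = Nat.card U * (e * e) := by
    rw [← he, ← Nat.card_congr (subgroupOfEquivOfLe hP.le).toEquiv]
    exact ((U.subgroupOf M).card_mul_index).symm
  have he1 : 1 ≤ e := by
    rcases Nat.eq_zero_or_pos e with h | h
    · subst h
      rw [Nat.zero_mul, Nat.mul_zero] at hMcard
      exact absurd hMcard Nat.card_pos.ne'
    · exact h
  refine ⟨{ U := U, M := M, nU := hUn, nM := hMn, e := e, d := d, m := m, he := he1, hd := hd, hm := hm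
            hem := Nat.mul_self_le_mul_self_iff.1 (he ▸ hbound M hMC hP.comm hnd)
            hV := hV, hUdvd := hUdvd
            hdiv := fun r hr hre => Huppert.dvd_card_of_dvd_index hP hnd hr (he ▸ hre.mul_left e)
            hMcard := hMcard, hidx := hidx, hfpf := hfpf, hUM := hP.le, hMC := hMC, hUcomm := hU
            hcent := hP.central, hcomm := hP.comm, hnd := hnd, hfaith := hfaith, hK := hK
            hone := ?_, hAb := ?_, hP := hP, hmax := hmax, hrel := he, sec := exists_section U M hP hmax hnd he }⟩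
  · intro h1
    by_contra hC
    exact (hUM hC).not_ge (relIndex_eq_one.1 (by rw [he, h1, mul_one]))
  · intro a b
    obtain ⟨u₀, hu₀⟩ := IsCyclic.exists_generator (α := U)
    have hc : ∀ g : A, ∃ i : ℤ, ∀ x ∈ U, g * x * g⁻¹ = x ^ i := by
      intro g
      obtain ⟨i, hi⟩ := mem_zpowers_iff.1 (hu₀ ⟨g * u₀ * g⁻¹, hUn.conj_mem _ u₀.2 g⟩)
      refine ⟨i, fun x hx => ?_⟩
      obtain ⟨j, hj⟩ := mem_zpowers_iff.1 (hu₀ ⟨x, hx⟩)
      have hxj : x = (u₀ : A) ^ j := by rw [← Subgroup.coe_zpow, hj]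
      have hi' : g * (u₀ : A) * g⁻¹ = (u₀ : A) ^ i := by rw [← Subgroup.coe_zpow, hi]
      rw [hxj, ← zpow_mul, mul_comm, zpow_mul, ← hi', conj_zpow]
    rw [mem_centralizer_iff]
    intro x hx
    obtain ⟨i, hi⟩ := hc a
    obtain ⟨j, hj⟩ := hc b
    have hy := hUn.conj_mem x hx (b * a)⁻¹
    rw [inv_inv] at hy
    calc x * (a * b * a⁻¹ * b⁻¹) = (b * a) * ((b * a)⁻¹ * x * (b * a)) * (b * a)⁻¹ * (a * b * a⁻¹ * b⁻¹) := by group
      _ = _ := ?_
    have key' : ∀ y ∈ U, a * b * y * (a * b)⁻¹ = b * a * y * (b * a)⁻¹ := by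
      intro y hy
      have e1 : a * b * y * (a * b)⁻¹ = (y ^ j) ^ i := by
        rw [show a * b * y * (a * b)⁻¹ = a * (b * y * b⁻¹) * a⁻¹ by group, hj y hy, hi _ (zpow_mem hy j)]
      have e2 : b * a * y * (b * a)⁻¹ = (y ^ i) ^ j := by
        rw [show b * a * y * (b * a)⁻¹ = b * (a * y * a⁻¹) * b⁻¹ by group, hi y hy, hj _ (zpow_mem hy i)]
      rw [e1, e2, ← zpow_mul, ← zpow_mul, mul_comm]
    rw [← key' _ hy]
    group

end Cfsg.Agent.VecCentralizer
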