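import Cfsg.Agent.EqLemmas
import Mathlib.Tactic

/-! A table bounding the derived length of small irreducible solvable linear groups. -/

set_option autoImplicit false

namespace Cfsg.Agent.VecCentralizer

/-- The bound for dimension `k` over `r` elements. -/
def T (r k : ℕ) : ℕ :=
  if r = 2 then [0, 0, 2, 2, 3, 2, 6, 2, 6, 5, 6, 2, 7, 2, 6, 4, 7].getD k 0
  else if r = 3 then [0, 1, 4, 4, 5, 5, 6, 5, 8, 8, 8].getD k 0
  else [0, 1, 4, 6, 6, 6, 7].getD k 0

/-- The largest dimension in the table. -/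
def dimMax (r : ℕ) : ℕ := if r = 2 then 16 else if r = 3 then 10 else 6

/-- The dimension is covered. -/
def Covered (r k : ℕ) : Prop := 1 ≤ k ∧ k ≤ dimMax r

/-- Three classes of characteristics. -/
def cls (r : ℕ) : ℕ := if r = 2 then 2 else if r = 3 then 3 else 5

theorem T_cls (r k : ℕ) : T (cls r) k = T r k := by
  unfold cls T; split_ifs <;> simp_all

theorem dimMax_cls (r : ℕ) : dimMax (cls r) = dimMax r := by
  unfold cls dimMax; split_ifs <;> simp_all

theorem one_le_T {r k : ℕ} (hk : Covered r k) (h : ¬ (r = 2 ∧ k = 1)) : 1 ≤ T r k := by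
  obtain ⟨h1, h2⟩ := hk
  unfold dimMax at h2
  unfold T
  split_ifs at h2 ⊢ with a b
  · rcases (by omega : k = 1 ∨ 2 ≤ k) with e | e
    · exact absurd ⟨a, e⟩ h
    · interval_cases k <;> decide
  · interval_cases k <;> decide
  · interval_cases k <;> decide

/-- The imprimitive closure. -/
theorem imp_closure_aux : ∀ r ∈ [2, 3, 5], ∀ k ∈ List.range 17, k ≤ dimMax r → ∀ b ∈ List.range 17, 2 ≤ b →
    b ≤ k → b ∣ k → ∀ s ∈ [2, 3, 5, 7, 11, 13], ∀ i ∈ List.range 5, b = s ^ i →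
      i ≤ dimMax s ∧ T r (k / b) + (T s i + 1) ≤ T r k := by
  decide +kernel

/-- The primitive closure. -/
theorem prim_closure_aux : ∀ r ∈ [2, 3, 5], ∀ k ∈ List.range 17, k ≤ dimMax r → ∀ d ∈ List.range 17, d ∣ k →
    ∀ e ∈ List.range 17, 2 ≤ e → e ≤ k / d → (r = 5 ∨ e ∣ (r ^ d - 1) ^ k) → 3 ≤ T r k ∧
    ∀ s ∈ [2, 3, 5, 7, 11, 13], s ∣ e → ∀ i ∈ List.range 9, s ^ i ∣ e * e →
      i ≤ dimMax s ∧ 2 + T s i ≤ T r k := by
  decide +kernel

theorem two_le_T_aux : ∀ r ∈ [2, 3, 5], ∀ k ∈ List.range 17, 2 ≤ k → k ≤ dimMax r → 2 ≤ T r k := by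
  decide +kernel

theorem cls_mem (r : ℕ) : cls r ∈ [2, 3, 5] := by unfold cls; split_ifs <;> simp

theorem dimMax_le (r : ℕ) : dimMax r ≤ 16 := by unfold dimMax; split_ifs <;> norm_num

theorem prime_small {s : ℕ} (hs : s.Prime) (h : s ≤ 16) : s ∈ [2, 3, 5, 7, 11, 13] := by
  have := hs.two_le
  interval_cases s <;> first | decide | (revert hs; norm_num)

theorem two_le_T {r k : ℕ} (h2 : 2 ≤ k) (hk : k ≤ dimMax r) : 2 ≤ T r k := by
  have := dimMax_le r
  rw [← T_cls]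
  exact two_le_T_aux _ (cls_mem r) k (List.mem_range.2 (by omega)) h2 (by rwa [dimMax_cls])

theorem imp_closure {r k j b s i : ℕ} (hk : k ≤ dimMax r) (hj : 1 ≤ j) (hb : 2 ≤ b) (hkb : k = j * b) (hs : s.Prime)
    (hbs : b = s ^ i) : Covered r j ∧ Covered s i ∧ T r j + (T s i + 1) ≤ T r k := by
  have := dimMax_le r
  have hbk : b ≤ k := hkb ▸ Nat.le_mul_of_pos_left b hj
  have hjk : j ≤ k := hkb ▸ Nat.le_mul_of_pos_right j (by omega)
  have hi : 1 ≤ i := by
    rcases Nat.eq_zero_or_pos i with h | h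
    · rw [h, pow_zero] at hbs; omega
    · exact h
  have hsb : s ≤ b := hbs ▸ Nat.le_self_pow (by omega) s
  have hi5 : i < 5 := by
    by_contra hc
    have : 2 ^ 5 ≤ s ^ i := (Nat.pow_le_pow_left hs.two_le 5).trans (Nat.pow_le_pow_right hs.pos (by omega))
    rw [← hbs] at this
    norm_num at this
    omega
  obtain ⟨h1, h2⟩ := imp_closure_aux _ (cls_mem r) k (List.mem_range.2 (by omega)) (by rwa [dimMax_cls]) b
    (List.mem_range.2 (by omega)) hb hbk (hkb ▸ dvd_mul_left b j) s (prime_small hs (by omega)) i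
    (List.mem_range.2 hi5) hbs
  rw [T_cls, T_cls, show k / b = j by rw [hkb]; exact Nat.mul_div_cancel j (by omega)] at h2
  exact ⟨⟨hj, hjk.trans hk⟩, ⟨hi, h1⟩, h2⟩

theorem dvd_pow_of_primes {e x k : ℕ} (he : 0 < e) (hek : e ≤ k) (h : ∀ q : ℕ, q.Prime → q ∣ e → q ∣ x) :
    e ∣ x ^ k := by
  refine (Nat.dvd_iff_prime_pow_dvd_dvd _ _).2 fun q j hq hqj => ?_
  rcases Nat.eq_zero_or_pos j with rfl | hj
  · simp
  have hjk : j ≤ k := by
    have h1 : q ^ j ≤ e := Nat.le_of_dvd he hqj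
    have h2 : j < q ^ j := Nat.lt_pow_self hq.one_lt
    omega
  exact (pow_dvd_pow_of_dvd (h q hq ((dvd_pow_self q hj.ne').trans hqj)) j).trans (pow_dvd_pow x hjk)

theorem prim_closure {r k d m e s i : ℕ} (hk : k ≤ dimMax r) (hd : 1 ≤ d) (hkd : k = d * m) (he : 2 ≤ e) (hem : e ≤ m)
    (hq : ∀ q : ℕ, q.Prime → q ∣ e → q ∣ r ^ d - 1) (hs : s.Prime) (hi : 1 ≤ i) (hsi : s ^ i ∣ e * e) :
    Covered s i ∧ 2 + T s i ≤ T r k ∧ 3 ≤ T r k := by
  have := dimMax_le r
  have hmk : m ≤ k := hkd ▸ Nat.le_mul_of_pos_left m hd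
  have hdk : d ≤ k := hkd ▸ Nat.le_mul_of_pos_right d (by omega)
  have hse : s ∣ e := by
    rcases (Nat.Prime.dvd_mul hs).1 ((dvd_pow_self s (by omega)).trans hsi) with h | h <;> exact h
  have hsle : s ≤ e := Nat.le_of_dvd (by omega) hse
  have hi9 : i < 9 := by
    by_contra hc
    have h1 : 2 ^ 9 ≤ s ^ i := (Nat.pow_le_pow_left hs.two_le 9).trans (Nat.pow_le_pow_right hs.pos (by omega))
    have h2 : s ^ i ≤ e * e := Nat.le_of_dvd (by positivity) hsi
    have h3 : e * e ≤ 16 * 16 := Nat.mul_le_mul (by omega) (by omega)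
    norm_num at h1 h3
    omega
  have hcond : cls r = 5 ∨ e ∣ (cls r ^ d - 1) ^ k := by
    unfold cls
    split_ifs with h2 h3
    · exact Or.inr (dvd_pow_of_primes (by omega) (by omega) (h2 ▸ hq))
    · exact Or.inr (dvd_pow_of_primes (by omega) (by omega) (h3 ▸ hq))
    · exact Or.inl rfl
  obtain ⟨h3, h⟩ := prim_closure_aux _ (cls_mem r) k (List.mem_range.2 (by omega)) (by rwa [dimMax_cls]) d
    (List.mem_range.2 (by omega)) (hkd ▸ dvd_mul_right d m) e (List.mem_range.2 (by omega)) he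
    (by rw [hkd, Nat.mul_div_cancel_left m (by omega)]; exact hem) hcond
  obtain ⟨h1, h2⟩ := h s (prime_small hs (by omega)) hse i (List.mem_range.2 hi9) hsi
  rw [T_cls] at h2 h3
  exact ⟨⟨hi, h1⟩, h2, h3⟩

end Cfsg.Agent.VecCentralizer
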