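import Cfsg.Agent.Lib.VecCentralizer.PData
import Cfsg.Agent.Lib.VecCentralizer.Table

/-! Derived lengths in a primitive group. -/

set_option autoImplicit false
set_option linter.style.haveILetI false

namespace Cfsg.Agent.VecCentralizer

open Subgroup
open OddBaseTwo (Inv Irr CR subAction)
open scoped commutatorElement

variable {A : Type} [Group A] {V : Type} [AddCommGroup V] [DistribMulAction A V] {p : ℕ} (D : PData A V p)

theorem PData.derived_le [Finite A] {k : ℕ} (hk : 1 ≤ k)
    (h : ∀ (W : Type) [AddCommGroup W] [Finite W] [DistribMulAction A W] (s i : ℕ), s.Prime → 1 ≤ i →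
      s ^ i ∣ D.e * D.e → Nat.card W = s ^ i → Irr A W → Triv A W k) : derivedSeries A k ≤ D.M := by
  obtain ⟨W, i1, i2, i3, hW, hcr, hker⟩ := D.sec
  have htriv : Triv A W k := by
    refine triv_of_cr hcr k fun U hU hU0 hirr => ?_
    letI := subAction hU
    haveI : Nontrivial U := (AddSubgroup.nontrivial_iff_ne_bot U).2 hU0
    obtain ⟨s, hs, hexp⟩ := exists_prime_exponent hirr
    haveI := Fact.mk hs
    letI : Module (ZMod s) U := AddCommGroup.zmodModule hexp
    obtain ⟨i, hi, hcard⟩ := exists_card_eq_pow (V := U) (p := s)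
    exact h U s i hs hi (by rw [← hcard, ← hW]; exact U.card_addSubgroup_dvd_card) hcard hirr
  intro g hg
  have hgC : g ∈ centralizer (D.U : Set A) :=
    derived_one_le D.hAb (derivedSeries_antitone A hk hg)
  exact D.hK g hgC ((hker g).1 (htriv g hg))

/-- A group with abelian image modulo `M` and abelian `U` acts with derived length at most two more. -/
theorem PData.triv_of_le {k : ℕ} (h : derivedSeries A k ≤ D.M) : Triv A V (k + 2) := by
  intro g hg x
  obtain ⟨hgM, hgM'⟩ := derived_add' h hg
  have h1 : derivedSeries D.M 1 ≤ D.U.subgroupOf D.M :=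
    derived_one_le fun a b => mem_subgroupOf.2 (D.hcomm a a.2 b b.2)
  have h2 : derivedSeries D.M 2 = ⊥ := by
    rw [derivedSeries_succ, eq_bot_iff, commutator_le]
    intro a ha b hb
    rw [mem_bot, commutatorElement_eq_one_iff_mul_comm]
    exact Subtype.ext (D.hUcomm _ (mem_subgroupOf.1 (h1 ha)) _ (mem_subgroupOf.1 (h1 hb)))
  rw [h2, mem_bot] at hgM'
  rw [show g = 1 from congrArg Subtype.val hgM', one_smul]

/-- Vector stabilisers lose one more. -/
theorem PData.stab_triv {k : ℕ} (h : derivedSeries A k ≤ D.M) {v : V} (hv : v ≠ 0) :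
    Triv (MulAction.stabilizer A v) V (k + 1) := by
  intro g hg x
  have hle : derivedSeries (MulAction.stabilizer A v) k ≤ D.M.subgroupOf (MulAction.stabilizer A v) := by
    intro z hz
    exact mem_subgroupOf.2 (h (map_derivedSeries_le_derivedSeries (MulAction.stabilizer A v).subtype k ⟨z, hz, rfl⟩))
  have hbot : derivedSeries (MulAction.stabilizer A v) (k + 1) = ⊥ := by
    rw [derivedSeries_succ, eq_bot_iff, commutator_le]
    intro a ha b hb
    have hcU : ((⁅a, b⁆ : MulAction.stabilizer A v) : A) ∈ D.U := by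
      have := D.hcomm _ (mem_subgroupOf.1 (hle ha)) _ (mem_subgroupOf.1 (hle hb))
      simpa [commutatorElement_def] using this
    rw [mem_bot]
    refine Subtype.ext ?_
    by_contra hne
    exact hv (D.hfpf _ hcU hne v (⁅a, b⁆).2)
  rw [hbot, mem_bot] at hg
  rw [hg, one_smul]

theorem PData.k_eq [Finite V] {k : ℕ} (hp : p.Prime) (hk : Nat.card V = p ^ k) : k = D.d * D.m := by
  have h := hk.symm.trans D.hV
  rw [← pow_mul] at h
  exact Nat.pow_right_injective hp.two_le h

theorem PData.three_le_q (hp : p.Prime) (he : 2 ≤ D.e) : 3 ≤ p ^ D.d := by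
  obtain ⟨r, hr, hre⟩ := Nat.exists_prime_and_dvd (show D.e ≠ 1 by omega)
  have h1 : r ∣ p ^ D.d - 1 := (D.hdiv r hr hre).trans D.hUdvd
  have h2 : 1 < p ^ D.d := Nat.one_lt_pow D.hd.ne' hp.one_lt
  have h3 := Nat.le_of_dvd (by omega) h1
  have := hr.two_le
  omega

theorem self_mul_self_lt_three_pow (m : ℕ) : m * m < 3 ^ m := by
  induction m with
  | zero => norm_num
  | succ n ih =>
    rcases Nat.lt_or_ge n 2 with h | h
    · interval_cases n <;> norm_num
    · rw [pow_succ]; nlinarith

end Cfsg.Agent.VecCentralizer
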