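import Cfsg.Agent.Lib.VecCentralizer.Triv
import Cfsg.Agent.Lib.Huppert.Pairing
import Mathlib.GroupTheory.QuotientGroup.Basic

/-! The section `M/U` of a primitive group, as a completely reducible module. -/

set_option autoImplicit false
set_option linter.style.haveILetI false

namespace Cfsg.Agent.VecCentralizer

open Subgroup OddBaseTwo

variable {A : Type} [Group A] [Finite A]

/-- `M/U` is a completely reducible module. -/
theorem exists_section (U M : Subgroup A) [U.Normal] [M.Normal] (hP : Huppert.Pairing U M)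
    (hmax : ∀ B : Subgroup A, B.Normal → (∀ a ∈ B, ∀ b ∈ B, a * b = b * a) → U ≤ B → B = U)
    (hnd : ∀ u ∈ M, (∀ v ∈ M, u * v = v * u) → u ∈ U) {e : ℕ} (he : U.relIndex M = e * e) :
    ∃ (W : Type) (_ : AddCommGroup W) (_ : Finite W) (_ : DistribMulAction A W), Nat.card W = e * e ∧ CR A W ∧
      ∀ g : A, (∀ x : W, g • x = x) ↔ ∀ v ∈ M, g * v * g⁻¹ * v⁻¹ ∈ U := by
  classical
  haveI : (U.subgroupOf M).Normal := inferInstance
  letI : CommGroup (M ⧸ U.subgroupOf M) :=
    { (inferInstance : Group (M ⧸ U.subgroupOf M)) with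
      mul_comm := fun a b => by
        induction a using QuotientGroup.induction_on with
        | _ a =>
          induction b using QuotientGroup.induction_on with
          | _ b =>
            show ((a * b : M) : M ⧸ U.subgroupOf M) = ((b * a : M) : M ⧸ U.subgroupOf M)
            rw [QuotientGroup.eq, mem_subgroupOf]
            have h := hP.comm (b : A)⁻¹ (inv_mem b.2) (a : A)⁻¹ (inv_mem a.2)
            push_cast
            convert h using 1
            group }
  let cj : A → (M ⧸ U.subgroupOf M) →* (M ⧸ U.subgroupOf M) := fun g =>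
    QuotientGroup.map _ _ (MulAut.conjNormal (H := M) g).toMonoidHom (fun u hu => by
      rw [mem_comap, mem_subgroupOf]
      show ((MulAut.conjNormal (H := M) g u : M) : A) ∈ U
      rw [MulAut.conjNormal_apply]
      exact ‹U.Normal›.conj_mem _ (mem_subgroupOf.1 hu) g)
  have hcj : ∀ (g : A) (u : M), cj g (u : M ⧸ U.subgroupOf M) =
      ((⟨g * u * g⁻¹, ‹M.Normal›.conj_mem u u.2 g⟩ : M) : M ⧸ U.subgroupOf M) := by
    intro g u
    show ((MulAut.conjNormal (H := M) g u : M) : M ⧸ U.subgroupOf M) = _
    congr 1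
  letI act : DistribMulAction A (Additive (M ⧸ U.subgroupOf M)) :=
    { smul := fun g x => Additive.ofMul (cj g x.toMul)
      one_smul := fun x => by
        induction x using Additive.rec with
        | _ x =>
          induction x using QuotientGroup.induction_on with
          | _ u =>
            show Additive.ofMul (cj 1 (u : M ⧸ U.subgroupOf M)) = _
            rw [hcj]
            exact congrArg (fun z : M => Additive.ofMul (z : M ⧸ U.subgroupOf M)) (Subtype.ext (by simp))
      mul_smul := fun g k x => by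
        induction x using Additive.rec with
        | _ x =>
          induction x using QuotientGroup.induction_on with
          | _ u =>
            show Additive.ofMul (cj (g * k) (u : M ⧸ U.subgroupOf M)) =
              Additive.ofMul (cj g (cj k (u : M ⧸ U.subgroupOf M)))
            rw [hcj, hcj, hcj]
            exact congrArg (fun z : M => Additive.ofMul (z : M ⧸ U.subgroupOf M)) (Subtype.ext (by simp [mul_assoc]))
      smul_zero := fun g => congrArg Additive.ofMul (map_one (cj g))
      smul_add := fun g x y => congrArg Additive.ofMul (map_mul (cj g) x.toMul y.toMul) }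
  set W := Additive (M ⧸ U.subgroupOf M)
  have hWcard : Nat.card W = e * e := (Nat.card_congr Additive.ofMul.symm).trans he
  have hsmul : ∀ (g : A) (u : M), g • (Additive.ofMul (u : M ⧸ U.subgroupOf M) : W) =
      Additive.ofMul ((⟨g * u * g⁻¹, ‹M.Normal›.conj_mem u u.2 g⟩ : M) : M ⧸ U.subgroupOf M) :=
    fun g u => congrArg Additive.ofMul (hcj g u)
  -- invariant subgroups
  have hlift : ∀ T : AddSubgroup W, Inv A T → ∃ L : Subgroup A, L.Normal ∧ U ≤ L ∧ L ≤ M ∧
      (∀ u : M, (u : A) ∈ L ↔ Additive.ofMul (u : M ⧸ U.subgroupOf M) ∈ T) ∧ U.relIndex L = Nat.card T := by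
    intro T hT
    let L' : Subgroup M := (AddSubgroup.toSubgroup' T).comap (QuotientGroup.mk' (U.subgroupOf M))
    have hmem : ∀ u : M, (u : A) ∈ L'.map M.subtype ↔ Additive.ofMul (u : M ⧸ U.subgroupOf M) ∈ T := by
      intro u
      constructor
      · rintro ⟨w, hw, he'⟩
        obtain rfl : w = u := Subtype.ext he'
        exact hw
      · exact fun h => ⟨u, h, rfl⟩
    refine ⟨L'.map M.subtype, ⟨?_⟩, ?_, map_subtype_le _, hmem, ?_⟩
    · rintro _ ⟨u, hu, rfl⟩ g
      refine ⟨⟨g * u * g⁻¹, ‹M.Normal›.conj_mem u u.2 g⟩, ?_, rfl⟩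
      show Additive.ofMul _ ∈ T
      rw [QuotientGroup.mk'_apply, ← hsmul]
      exact hT g _ hu
    · intro u hu
      refine (hmem ⟨u, hP.le hu⟩).2 ?_
      rw [(QuotientGroup.eq_one_iff _).2 (mem_subgroupOf.2 hu)]
      exact T.zero_mem
    · have h1 : U = (U.subgroupOf M).map M.subtype := by rw [subgroupOf_map_subtype, inf_eq_left.2 hP.le]
      conv_lhs => rw [h1]
      rw [relIndex_map_map_of_injective _ _ M.subtype_injective]
      conv_lhs => rw [show U.subgroupOf M = (QuotientGroup.mk' (U.subgroupOf M)).ker from (QuotientGroup.ker_mk' _).symm]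
      rw [relIndex_ker]
      simp only [L', map_comap_eq_self_of_surjective (QuotientGroup.mk'_surjective _)]
      exact Nat.card_congr Additive.ofMul
  have hLC : ∀ L : Subgroup A, L.Normal → U ≤ L → L ≤ M → L ⊓ centralizer (L : Set A) = U := by
    intro L hL hUL hLM
    haveI := hL
    refine hmax _ inferInstance (fun a ha b hb => mem_centralizer_iff.1 hb.2 a ha.1) (le_inf hUL fun a ha => ?_)
    exact mem_centralizer_iff.2 fun v hv => (hP.central a ha v (hLM hv)).symm
  have hMC : ∀ L : Subgroup A, U ≤ L → L ≤ M → L ⊓ centralizer (M : Set A) = U := by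
    intro L hUL hLM
    refine le_antisymm (fun u hu => hnd u (hLM hu.1) fun v hv => (mem_centralizer_iff.1 hu.2 v hv).symm)
      (le_inf hUL fun a ha => mem_centralizer_iff.2 fun v hv => (hP.central a ha v hv).symm)
  have hcr : CR A W := by
    intro T hT
    obtain ⟨L, hL, hUL, hLM, hmemL, hcardT⟩ := hlift T hT
    haveI := hL
    let P := Huppert.perp M L
    have hUP : U ≤ P := le_inf hP.le fun a ha => mem_centralizer_iff.2 fun v hv => (hP.central a ha v (hLM hv)).symm
    let T' : AddSubgroup W :=
      Subgroup.toAddSubgroup ((P.subgroupOf M).map (QuotientGroup.mk' (U.subgroupOf M)))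
    have hmemT' : ∀ x : W, x ∈ T' ↔ ∃ u : M, (u : A) ∈ P ∧ Additive.ofMul (u : M ⧸ U.subgroupOf M) = x :=
      fun x => ⟨fun ⟨u, hu, h⟩ => ⟨u, hu, congrArg Additive.ofMul h⟩,
        fun ⟨u, hu, h⟩ => ⟨u, hu, congrArg Additive.toMul h⟩⟩
    have hPn : P.Normal := by show (M ⊓ centralizer (L : Set A)).Normal; infer_instance
    have hT' : Inv A T' := by
      intro g x hx
      obtain ⟨u, hu, rfl⟩ := (hmemT' x).1 hx
      exact (hmemT' _).2 ⟨_, hPn.conj_mem _ hu g, (hsmul g u).symm⟩
    have hdisj : T ⊓ T' = ⊥ := by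
      refine (AddSubgroup.eq_bot_iff_forall _).2 fun x hx => ?_
      obtain ⟨u, hu, rfl⟩ := (hmemT' x).1 hx.2
      have hu' : (u : A) ∈ L ⊓ centralizer (L : Set A) := ⟨(hmemL u).2 hx.1, hu.2⟩
      rw [hLC L hL hUL hLM] at hu'
      rw [(QuotientGroup.eq_one_iff _).2 (mem_subgroupOf.2 hu')]
      rfl
    refine ⟨T', hT', hdisj, ?_⟩
    -- by counting
    have hcard' : U.relIndex P = Nat.card T' := by
      have h1 : U = (U.subgroupOf M).map M.subtype := by rw [subgroupOf_map_subtype, inf_eq_left.2 hP.le]
      have h2 : P = (P.subgroupOf M).map M.subtype := by rw [subgroupOf_map_subtype, inf_eq_left.2 inf_le_left]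
      conv_lhs => rw [h1, h2]
      rw [relIndex_map_map_of_injective _ _ M.subtype_injective]
      conv_lhs => rw [show U.subgroupOf M = (QuotientGroup.mk' (U.subgroupOf M)).ker from (QuotientGroup.ker_mk' _).symm]
      rw [relIndex_ker]
      exact Nat.card_congr Additive.ofMul
    have hidx : P.relIndex M = U.relIndex L := by
      rw [Huppert.perp_index hP hLM, hMC L hUL hLM]
    have hprod : Nat.card T * Nat.card T' = Nat.card W := by
      rw [hWcard, ← he, ← hcardT, ← hcard', ← hidx, mul_comm, relIndex_mul_relIndex U P M hUP inf_le_left]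
    let f : T × T' → W := fun q => (q.1 : W) + q.2
    have hinj : Function.Injective f := by
      intro q q' e'
      have e' : (q.1 : W) + q.2 = q'.1 + q'.2 := e'
      have hm : (q.1 : W) - q'.1 ∈ T ⊓ T' := by
        refine AddSubgroup.mem_inf.2 ⟨sub_mem q.1.2 q'.1.2, ?_⟩
        rw [show (q.1 : W) - q'.1 = (q'.2 : W) - q.2 by
          rw [sub_eq_sub_iff_add_eq_add]; exact e'.trans (add_comm _ _)]
        exact sub_mem q'.2.2 q.2.2
      rw [hdisj, AddSubgroup.mem_bot, sub_eq_zero] at hm
      rw [hm, add_right_inj] at e'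
      exact Prod.ext (Subtype.ext hm) (Subtype.ext e')
    have hbij := hinj.bijective_of_nat_card_le (by rw [Nat.card_prod, hprod])
    refine eq_top_iff.2 fun x _ => ?_
    obtain ⟨q, rfl⟩ := hbij.2 x
    exact AddSubgroup.mem_sup.2 ⟨q.1, q.1.2, q.2, q.2.2, rfl⟩
  refine ⟨W, inferInstance, inferInstance, act, hWcard, hcr, fun g => ?_⟩
  constructor
  · intro hg v hv
    have h1 : g • (Additive.ofMul ((⟨v, hv⟩ : M) : M ⧸ U.subgroupOf M) : W) =
        Additive.ofMul ((⟨v, hv⟩ : M) : M ⧸ U.subgroupOf M) :=
      hg (Additive.ofMul ((⟨v, hv⟩ : M) : M ⧸ U.subgroupOf M) : W)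
    rw [hsmul] at h1
    have h2 := QuotientGroup.eq.1 (Additive.ofMul.injective h1)
    rw [mem_subgroupOf] at h2
    have h3 := ‹U.Normal›.conj_mem _ (U.inv_mem h2) v
    push_cast at h3
    convert h3 using 1
    group
  · intro hg
    intro x
    induction x using Additive.rec with
    | _ x =>
      induction x using QuotientGroup.induction_on with
      | _ u =>
        show g • (Additive.ofMul (u : M ⧸ U.subgroupOf M) : W) = _
        rw [hsmul]
        refine congrArg Additive.ofMul (QuotientGroup.eq.2 (mem_subgroupOf.2 ?_))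
        have h3 := ‹U.Normal›.conj_mem _ (U.inv_mem (hg u u.2)) (u : A)⁻¹
        push_cast
        convert h3 using 1
        group


end Cfsg.Agent.VecCentralizer
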