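import Cfsg.Agent.EqLemmas
import Cfsg.Agent.Lib.OddBaseTwo.Small
import Mathlib.GroupTheory.Solvable

/-! Derived subgroups acting trivially on modules. -/

set_option autoImplicit false
set_option linter.style.haveILetI false

namespace Cfsg.Agent.VecCentralizer

open OddBaseTwo (Inv CR Irr subAction)

/-- The `D`-th derived subgroup acts trivially. -/
def Triv (A V : Type*) [Group A] [SMul A V] (D : ℕ) : Prop := ∀ g ∈ derivedSeries A D, ∀ x : V, g • x = x

section

variable {A : Type*} [Group A]

theorem Triv.mono {V : Type*} [SMul A V] {D D' : ℕ} (h : Triv A V D) (hle : D ≤ D') : Triv A V D' :=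
  fun g hg => h g (derivedSeries_antitone A hle hg)

/-- Restriction along a homomorphism. -/
theorem Triv.comap {B V : Type*} [Group B] [SMul A V] [SMul B V] {D : ℕ} (h : Triv A V D) (f : B →* A)
    (hf : ∀ (b : B) (x : V), f b • x = b • x) : Triv B V D := fun b hb x => by
  rw [← hf]
  exact h _ (map_derivedSeries_le_derivedSeries f D ⟨b, hb, rfl⟩) x

/-- A subgroup sees less. -/
theorem Triv.sub {V : Type*} [MulAction A V] {D : ℕ} (h : Triv A V D) (H : Subgroup A) : Triv H V D :=
  h.comap H.subtype fun _ _ => rfl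

/-- The faithful case. -/
theorem Triv.eq_bot {V : Type*} [MulAction A V] [FaithfulSMul A V] {D : ℕ} (h : Triv A V D) :
    derivedSeries A D = ⊥ :=
  (Subgroup.eq_bot_iff_forall _).2 fun g hg =>
    eq_of_smul_eq_smul (α := V) fun x => by rw [h g hg x, one_smul]

theorem derived_add {H : Subgroup A} {m : ℕ} (h : derivedSeries A m ≤ H) :
    ∀ k, derivedSeries A (m + k) ≤ (derivedSeries H k).map H.subtype := by
  intro k
  induction k with
  | zero => rw [derivedSeries_zero, ← MonoidHom.range_eq_map, Subgroup.range_subtype]; exact h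
  | succ k ih =>
    rw [← add_assoc, derivedSeries_succ, derivedSeries_succ, Subgroup.map_commutator]
    exact Subgroup.commutator_mono ih ih

/-- Derived subgroups in stages. -/
theorem derived_add' {H : Subgroup A} {m k : ℕ} (h : derivedSeries A m ≤ H) {g : A}
    (hg : g ∈ derivedSeries A (m + k)) : ∃ hH : g ∈ H, (⟨g, hH⟩ : H) ∈ derivedSeries H k := by
  obtain ⟨z, hz, rfl⟩ := derived_add h k hg
  exact ⟨z.2, hz⟩

/-- An abelian group. -/
theorem derived_one_of_comm (h : ∀ a b : A, a * b = b * a) : derivedSeries A 1 = ⊥ := by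
  rw [derivedSeries_succ, derivedSeries_zero, Subgroup.commutator_eq_bot_iff_le_centralizer]
  exact fun a _ => Subgroup.mem_centralizer_iff.2 fun b _ => h b a

theorem derived_one_le {H : Subgroup A} (h : ∀ a b : A, a * b * a⁻¹ * b⁻¹ ∈ H) : derivedSeries A 1 ≤ H := by
  rw [derivedSeries_succ, derivedSeries_zero, Subgroup.commutator_le]
  exact fun a _ b _ => h a b

end

/-- It suffices to look at the irreducible constituents of a completely reducible module. -/
theorem triv_of_cr {A : Type} [Group A] {W : Type} [AddCommGroup W] [Finite W] [DistribMulAction A W] (hcr : CR A W)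
    (D : ℕ) (h : ∀ (U : AddSubgroup W) (hU : Inv A U), U ≠ ⊥ →
      (letI := subAction hU; Irr A U) → (letI := subAction hU; Triv A U D)) : Triv A W D := by
  classical
  intro g hg
  let F : AddSubgroup W :=
    { carrier := {x | ∀ k ∈ derivedSeries A D, k • x = x}
      zero_mem' := fun k _ => smul_zero k
      add_mem' := fun {x y} hx hy k hk => by rw [smul_add, hx k hk, hy k hk]
      neg_mem' := fun {x} hx k hk => by rw [smul_neg, hx k hk] }
  have hF : Inv A F := fun a x hx k hk => by
    have h' := hx _ ((derivedSeries_normal A D).conj_mem k hk a⁻¹)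
    rw [inv_inv, mul_smul, mul_smul, inv_smul_eq_iff] at h'
    exact h'
  suffices hFt : F = ⊤ from fun x => (hFt ▸ AddSubgroup.mem_top x : x ∈ F) g hg
  obtain ⟨T, hT, hd, hs⟩ := hcr F hF
  by_contra hne
  have hT0 : T ≠ ⊥ := fun e => hne (by rw [← hs, e, sup_bot_eq])
  obtain ⟨U, ⟨hU, hU0, hUT⟩, hmin⟩ := (Set.toFinite {U : AddSubgroup W | Inv A U ∧ U ≠ ⊥ ∧ U ≤ T}).exists_minimal
    ⟨T, hT, hT0, le_rfl⟩
  letI := subAction hU
  have hirr : Irr A U := by
    intro S hS
    refine or_iff_not_imp_left.2 fun hS0 => ?_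
    have hS' : S.map U.subtype ∈ {U : AddSubgroup W | Inv A U ∧ U ≠ ⊥ ∧ U ≤ T} := by
      refine ⟨?_, ?_, (AddSubgroup.map_subtype_le S).trans hUT⟩
      · rintro a _ ⟨s, hsS, rfl⟩; exact ⟨a • s, hS a s hsS, rfl⟩
      · intro e; exact hS0 ((AddSubgroup.map_eq_bot_iff_of_injective S U.subtype_injective).1 e)
    have := hmin hS' (AddSubgroup.map_subtype_le S)
    refine eq_top_iff.2 fun u _ => ?_
    obtain ⟨s, hsS, he⟩ := this u.2
    rwa [← Subtype.ext he]
  refine hU0 (eq_bot_iff.2 fun x hx => ?_)
  have hxF : x ∈ F := fun k hk => congrArg Subtype.val (h U hU hU0 hirr k hk ⟨x, hx⟩)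
  exact hd ▸ (⟨hxF, hUT hx⟩ : x ∈ F ⊓ T)

/-- An irreducible finite module is elementary. -/
theorem exists_prime_exponent {A V : Type} [Group A] [AddCommGroup V] [Finite V] [Nontrivial V] [DistribMulAction A V]
    (hirr : Irr A V) : ∃ p : ℕ, p.Prime ∧ ∀ v : V, p • v = 0 := by
  obtain ⟨p, hp, hpV⟩ := Nat.exists_prime_and_dvd (Finite.one_lt_card (α := V)).ne'
  haveI := Fact.mk hp
  refine ⟨p, hp, ?_⟩
  let T : AddSubgroup V := (nsmulAddMonoidHom p : V →+ V).ker
  have hT : Inv A T := fun a v (hv : p • v = 0) => show p • (a • v) = 0 by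
    rw [show p • (a • v) = a • (p • v) from ((DistribSMul.toAddMonoidHom V a).map_nsmul p v).symm, hv, smul_zero]
  obtain ⟨x, hx⟩ := exists_prime_addOrderOf_dvd_card' (G := V) p hpV
  rcases hirr T hT with hb | ht
  · exfalso
    have : x ∈ T := by show p • x = 0; rw [← hx]; exact addOrderOf_nsmul_eq_zero x
    rw [hb, AddSubgroup.mem_bot] at this
    rw [this, addOrderOf_zero] at hx
    exact hp.one_lt.ne hx
  · exact fun v => (ht ▸ AddSubgroup.mem_top v : v ∈ T)

/-- A finite elementary group has prime power order. -/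
theorem exists_card_eq_pow {V : Type} [AddCommGroup V] [Finite V] [Nontrivial V] {p : ℕ} [Fact p.Prime]
    [Module (ZMod p) V] : ∃ k, 0 < k ∧ Nat.card V = p ^ k := by
  haveI : Module.Finite (ZMod p) V := Module.Finite.of_finite
  refine ⟨Module.finrank (ZMod p) V, Module.finrank_pos, ?_⟩
  rw [Module.natCard_eq_pow_finrank (K := ZMod p), Nat.card_zmod]

/-- A solvable action is that of a solvable group of permutations. -/
instance img_solvable {A V : Type*} [Group A] [Group.IsSolvable A] [AddCommGroup V] [DistribMulAction A V] :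
    Group.IsSolvable (OddBaseTwo.Img A V) :=
  Group.isSolvable_of_surjective (MulAction.toPermHom A V).rangeRestrict_surjective

end Cfsg.Agent.VecCentralizer
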